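import Cfsg.Agent.LThreeCo1.Class
import Cfsg.Agent.LThreeMB.Fix
import Cfsg.Agent.LThreeMB.Fus
import Cfsg.Agent.S0398
import Cfsg.Agent.CoOneType.CoAp
import Cfsg.Agent.CoOneType.CoQ
import Cfsg.Agent.CoOneType.CoQZ
import Cfsg.Agent.CoOneType.CoW
import Cfsg.Agent.LThreeMB.SpanQ
import Cfsg.Agent.FastGrp
import Cfsg.Agent.Prune
set_option linter.all false
prune_inst 0x7f00000000000000000000000000000000000000000000000000000000000000000000000000000000000000000000000000000000000000000000000000000000000000000000000000000000000000003fffffffffffffffffffffffffffbeffbdffffffff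
open scoped Cfsg.Agent.FastGrp

/-!
# Fixed ranks of the elements of order three of `Co0` (helper53; lists generated)

`fr_c0 … fr_c12`, `ranks`, `zero`, `six`, `eight`, `twelve` in the form of `LThreeMB.Inputs.CoOne` (helper68).
-/

set_option autoImplicit false
set_option maxRecDepth 100000

namespace Cfsg.Agent.LThreeCo1.Ranks

open Cfsg Cfsg.Agent.SporadicStructure.Co0Matrix Cfsg.Agent.CoOneType.CoEval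
open Cfsg.Agent.LThreeMB Cfsg.Agent.LThreeMB.Fix
open Cfsg.Agent.LThreeCo1.Ev Cfsg.Agent.LThreeCo1.Class Cfsg.Agent.LThreeCo1.Rel Cfsg.Agent.LThreeCo1.AGrp
open Cfsg.Spor (Co1)

/-- `c6` -/
def Q6 : List (List ℤ) := [
  [-4, 0, 0, 0, 0, 4, 0, 4, 0, 0, 0, 0, 0, 0, 0, 0, 0, 0, 0, 0, 0, 0, 0, 4],
  [0, 0, 0, 0, 0, 0, 0, 0, 0, 0, 0, -4, 0, 0, 4, 0, 0, 0, -4, -4, 0, 0, 0, 0],
  [0, 0, -4, 0, 0, 0, 0, 0, 0, 4, 0, 0, -4, 0, 0, 0, 0, 0, 0, 0, 0, 0, -4, 0],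
  [0, 0, 0, -4, 0, 0, 0, 0, 0, 0, 4, 0, 0, 0, 0, 0, 0, 0, 0, 0, -4, -4, 0, 0],
  [0, 0, 0, 0, 0, 0, 0, 0, 0, 0, 0, -4, 0, 0, 4, 0, 0, 0, 4, 4, 0, 0, 0, 0],
  [-4, 0, 0, 0, 0, -4, 0, 4, 0, 0, 0, 0, 0, 0, 0, 0, 0, 0, 0, 0, 0, 0, 0, -4],
  [0, -4, 0, 0, 4, 0, 0, 0, -4, 0, 0, 0, 0, 0, 0, -4, 0, 0, 0, 0, 0, 0, 0, 0],
  [-4, 0, 0, 0, 0, -4, 0, -4, 0, 0, 0, 0, 0, 0, 0, 0, 0, 0, 0, 0, 0, 0, 0, 4],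
  [0, 0, 0, 0, 0, 0, 0, 0, 0, 0, 0, 4, 0, 0, 4, 0, 0, 0, 4, -4, 0, 0, 0, 0],
  [0, 0, -4, 0, 0, 0, 0, 0, 0, -4, 0, 0, -4, 0, 0, 0, 0, 0, 0, 0, 0, 0, 4, 0],
  [0, 0, 0, -4, 0, 0, 0, 0, 0, 0, 4, 0, 0, 0, 0, 0, 0, 0, 0, 0, 4, 4, 0, 0],
  [0, 0, 0, 0, 0, 0, -4, 0, 0, 0, 0, 0, 0, -4, 0, 0, -4, 4, 0, 0, 0, 0, 0, 0],
  [0, 0, 4, 0, 0, 0, 0, 0, 0, 4, 0, 0, -4, 0, 0, 0, 0, 0, 0, 0, 0, 0, 4, 0],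
  [0, 4, 0, 0, 4, 0, 0, 0, -4, 0, 0, 0, 0, 0, 0, 4, 0, 0, 0, 0, 0, 0, 0, 0],
  [0, 0, 0, 0, 0, 0, -4, 0, 0, 0, 0, 0, 0, 4, 0, 0, 4, 4, 0, 0, 0, 0, 0, 0],
  [0, 0, 0, 0, 0, 0, 0, 0, 0, 0, 0, 4, 0, 0, 4, 0, 0, 0, -4, 4, 0, 0, 0, 0],
  [0, 4, 0, 0, 4, 0, 0, 0, 4, 0, 0, 0, 0, 0, 0, -4, 0, 0, 0, 0, 0, 0, 0, 0],
  [0, -4, 0, 0, 4, 0, 0, 0, 4, 0, 0, 0, 0, 0, 0, 4, 0, 0, 0, 0, 0, 0, 0, 0],
  [0, 0, 0, 0, 0, 0, 4, 0, 0, 0, 0, 0, 0, -4, 0, 0, 4, 4, 0, 0, 0, 0, 0, 0],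
  [0, 0, 0, 0, 0, 0, 4, 0, 0, 0, 0, 0, 0, 4, 0, 0, -4, 4, 0, 0, 0, 0, 0, 0],
  [0, 0, 0, 4, 0, 0, 0, 0, 0, 0, 4, 0, 0, 0, 0, 0, 0, 0, 0, 0, 4, -4, 0, 0],
  [0, 0, 0, 4, 0, 0, 0, 0, 0, 0, 4, 0, 0, 0, 0, 0, 0, 0, 0, 0, -4, 4, 0, 0],
  [0, 0, 4, 0, 0, 0, 0, 0, 0, -4, 0, 0, -4, 0, 0, 0, 0, 0, 0, 0, 0, 0, -4, 0],
  [-4, 0, 0, 0, 0, 4, 0, -4, 0, 0, 0, 0, 0, 0, 0, 0, 0, 0, 0, 0, 0, 0, 0, -4]]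

/-- `c12` -/
def Q12 : List (List ℤ) := [
  [-4, 0, -4, 0, 0, 0, 0, 0, 0, -4, 0, 0, 0, 0, 0, 0, 0, 0, 0, 0, 0, 0, -4, 0],
  [0, 4, 0, 4, 0, 0, -4, 0, 0, 0, 0, -4, 0, 0, 0, 0, 0, 0, 0, 0, 0, 0, 0, 0],
  [4, 0, 4, 0, 0, 0, 0, 0, 0, -4, 0, 0, 0, 0, 0, 0, 0, 0, 0, 0, 0, 0, -4, 0],
  [0, -4, 0, -4, 0, 0, -4, 0, 0, 0, 0, -4, 0, 0, 0, 0, 0, 0, 0, 0, 0, 0, 0, 0],
  [0, 0, 0, 0, 4, 0, 0, 0, 0, 0, 4, 0, 0, 0, -4, 0, 0, -4, 0, 0, 0, 0, 0, 0],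
  [0, 0, 0, 0, 0, 4, 0, -4, 0, 0, 0, 0, 4, 0, 0, 0, 0, 0, 0, 0, 0, 0, 0, -4],
  [0, -4, 0, 4, 0, 0, 4, 0, 0, 0, 0, -4, 0, 0, 0, 0, 0, 0, 0, 0, 0, 0, 0, 0],
  [0, 0, 0, 0, 0, -4, 0, 4, 0, 0, 0, 0, 4, 0, 0, 0, 0, 0, 0, 0, 0, 0, 0, -4],
  [0, 0, 0, 0, 0, 0, 0, 0, 4, 0, 0, 0, 0, 0, 0, 0, -4, 0, -4, 0, 4, 0, 0, 0],
  [4, 0, -4, 0, 0, 0, 0, 0, 0, 4, 0, 0, 0, 0, 0, 0, 0, 0, 0, 0, 0, 0, -4, 0],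
  [0, 0, 0, 0, -4, 0, 0, 0, 0, 0, -4, 0, 0, 0, -4, 0, 0, -4, 0, 0, 0, 0, 0, 0],
  [0, -4, 0, 4, 0, 0, -4, 0, 0, 0, 0, 4, 0, 0, 0, 0, 0, 0, 0, 0, 0, 0, 0, 0],
  [0, 0, 0, 0, 0, -4, 0, -4, 0, 0, 0, 0, -4, 0, 0, 0, 0, 0, 0, 0, 0, 0, 0, -4],
  [0, 0, 0, 0, 0, 0, 0, 0, 0, 0, 0, 0, 0, 4, 0, -4, 0, 0, 0, -4, 0, 4, 0, 0],
  [0, 0, 0, 0, -4, 0, 0, 0, 0, 0, 4, 0, 0, 0, 4, 0, 0, -4, 0, 0, 0, 0, 0, 0],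
  [0, 0, 0, 0, 0, 0, 0, 0, 0, 0, 0, 0, 0, -4, 0, 4, 0, 0, 0, -4, 0, 4, 0, 0],
  [0, 0, 0, 0, 0, 0, 0, 0, -4, 0, 0, 0, 0, 0, 0, 0, 4, 0, -4, 0, 4, 0, 0, 0],
  [0, 0, 0, 0, -4, 0, 0, 0, 0, 0, 4, 0, 0, 0, -4, 0, 0, 4, 0, 0, 0, 0, 0, 0],
  [0, 0, 0, 0, 0, 0, 0, 0, -4, 0, 0, 0, 0, 0, 0, 0, -4, 0, 4, 0, 4, 0, 0, 0],
  [0, 0, 0, 0, 0, 0, 0, 0, 0, 0, 0, 0, 0, -4, 0, -4, 0, 0, 0, 4, 0, 4, 0, 0],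
  [0, 0, 0, 0, 0, 0, 0, 0, -4, 0, 0, 0, 0, 0, 0, 0, -4, 0, -4, 0, -4, 0, 0, 0],
  [0, 0, 0, 0, 0, 0, 0, 0, 0, 0, 0, 0, 0, -4, 0, -4, 0, 0, 0, -4, 0, -4, 0, 0],
  [4, 0, -4, 0, 0, 0, 0, 0, 0, -4, 0, 0, 0, 0, 0, 0, 0, 0, 0, 0, 0, 0, 4, 0],
  [0, 0, 0, 0, 0, -4, 0, -4, 0, 0, 0, 0, 4, 0, 0, 0, 0, 0, 0, 0, 0, 0, 0, 4]]

theorem ok6 : Ok Q6 (tr Q6) := Cfsg.Agent.CoOneType.CoFast.ok_of_okZ (by exact Cfsg.Agent.CoOneType.CoQ.okz_of (by decide +kernel))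
theorem ok12 : Ok Q12 (tr Q12) := Cfsg.Agent.CoOneType.CoFast.ok_of_okZ (by exact Cfsg.Agent.CoOneType.CoQ.okz_of (by decide +kernel))

/-- fixed vectors and dual vectors -/
def v6 : List (List ℤ × List ℤ) := [
  ([0, -2, 0, 0, -2, 0, 0, 0, 0, 0, 0, 2, 0, -2, -2, 0, -2, 0, 0, 0, -2, 2, 0, 0],
   [0, 0, 2, -2, 0, 0, 0, 2, 0, 0, 0, 0, -2, 0, -2, 0, 0, 0, 2, 0, 0, 2, 0, -2]),
  ([0, -2, 0, 0, -2, 0, 0, 0, 0, 0, 0, 2, 0, -2, -2, 0, -2, 0, 0, 0, 2, -2, 0, 0],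
   [-1, -1, 1, -1, 1, 1, -1, 1, 1, -1, 3, -1, 1, -1, -1, 1, -1, 1, -1, 1, 1, -1, 1, 1]),
  ([0, -2, 0, 0, 0, 0, 0, 0, 0, 0, -2, 2, 0, 0, 0, 2, -2, 2, 0, 2, -2, 0, 0, 0],
   [-1, -1, -1, -1, -1, 1, 1, -1, -1, 1, -1, 1, -1, -1, 1, -1, -1, 1, -1, -1, -1, 3, 1, 1]),
  ([0, -2, 0, 0, 0, 0, 0, 0, 0, 0, 2, 2, 0, 0, 0, 2, -2, 2, 0, 2, 2, 0, 0, 0],
   [0, 0, 2, 0, 0, 2, -2, 0, 2, 0, -2, 0, 0, 2, -2, 0, 0, -2, 0, 0, 0, 0, 0, 0]),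
  ([0, -2, 0, 0, 0, 0, 0, 0, 2, 0, -2, 2, 0, -2, 0, 0, 0, 2, 2, 0, 0, -2, 0, 0],
   [1, -1, -1, -1, 3, 1, -1, 1, -1, 1, -1, 1, -1, -1, -1, -1, 1, 1, 1, -1, 1, 1, 1, 1]),
  ([0, -2, 0, 0, 0, 0, 2, 0, -2, 0, -2, 0, 0, 0, -2, 0, -2, 0, 0, 2, 0, -2, 0, 0],
   [3, 1, -1, 1, -1, 1, -1, 1, 1, -1, -1, -1, 1, -1, 1, 1, -1, 1, -1, -1, 1, 1, -1, 1])]

/-- fixed vectors and dual vectors -/
def v8 : List (List ℤ × List ℤ) := [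
  ([2, 2, 0, 0, 2, 0, 2, 2, 0, 2, 0, 0, 0, 0, 2, 2, 0, 0, 2, 2, 2, 0, 0, 2],
   [-1, 1, 1, -1, -1, 1, 1, 1, -1, -1, 1, 1, -1, -1, 1, -1, 1, 1, -1, 1, 3, -1, -1, 1]),
  ([2, 2, -2, 0, 0, 0, 2, 0, -2, 2, 0, 0, -2, -2, 0, 0, 0, 0, 0, 0, 2, -2, -2, 2],
   [1, 1, 1, 1, 1, 1, -1, -1, 1, -1, -1, 1, 1, 1, 1, -1, 1, -3, 1, -1, -1, -1, 1, 1]),
  ([1, 1, 1, 1, -1, -1, 3, 1, -1, 3, -1, 1, 1, -1, 1, -1, 1, -1, -1, 1, 3, -1, 1, 1],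
   [0, 0, 2, 0, 0, 0, 2, 2, 0, 0, 0, 2, 0, 0, 0, 0, -2, 0, -2, 0, 0, 0, -2, -2]),
  ([1, 1, 1, 3, -1, -1, 1, -1, 1, 1, -1, 3, 1, 1, -1, -1, 3, -1, -1, -1, 1, 1, 1, 1],
   [-1, -1, -1, -1, 1, -1, 1, -1, 1, 1, -1, -3, 1, 1, -1, 1, -1, 1, -1, -1, 1, -1, 1, 1]),
  ([0, 0, 2, 2, -2, 0, -2, 0, 0, -2, 0, 2, 2, 0, 0, -2, 2, 0, -2, 0, -2, 0, 2, 0],
   [0, 0, -2, -2, 0, 0, -2, 0, -2, -2, 0, 0, 0, -2, 0, -2, 0, 0, 0, 0, -2, 0, 0, 0]),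
  ([3, 3, 1, -1, -1, 1, 1, 1, -1, 1, 1, -1, 1, -1, 1, -1, -1, 1, -1, 1, 1, -1, 1, 3],
   [0, -2, 0, 2, 2, -2, 0, 0, 0, 0, 0, 0, -2, 0, 0, -2, 0, 2, 0, 2, 0, 0, 0, 0]),
  ([-1, -1, 1, 1, -1, -3, -1, -1, 1, -1, -3, 1, 1, 1, -1, -1, 1, -3, -1, -1, -1, 1, 1, -1],
   [-1, 3, -1, 1, -1, -1, -1, 1, -1, -1, -1, -1, -1, 1, 1, 1, -1, -1, -1, -1, 1, 1, 1, -1]),
  ([-1, -1, 1, -1, 1, -1, -1, 1, -3, -1, -1, -1, 1, -3, 1, 1, -1, -1, 1, 1, -1, -3, 1, -1],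
   [2, 0, 0, 0, 0, 0, 0, 0, 0, -2, -2, 0, 0, 0, -2, -2, 2, 0, -2, -2, 0, 0, 0, 0])]

/-- fixed vectors and dual vectors -/
def v12 : List (List ℤ × List ℤ) := [
  ([0, -4, 0, 0, 0, 0, 0, 0, 0, 0, 0, 4, 0, 0, 0, 0, 0, 0, 0, 0, 0, 0, 0, 0],
   [3, -1, 1, 1, -1, -1, -1, -1, 1, 1, -1, 1, -1, -1, -3, 1, 1, 1, -3, 1, 1, -1, -1, -1]),
  ([0, -4, 0, 0, 0, 0, 4, 0, 0, 0, 0, 0, 0, 0, 0, 0, 0, 0, 0, 0, 0, 0, 0, 0],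
   [1, 1, -1, -1, 1, -1, -1, -1, 1, 1, 1, 1, -1, -1, -1, -1, 1, 3, -1, -1, -1, -1, -1, -1]),
  ([0, -2, -2, 0, -2, -2, 2, 2, 0, 0, 0, 0, 0, 0, 0, 0, 0, 2, 0, 0, 0, 0, 2, 0],
   [-2, 0, 2, -4, 0, 0, 0, -2, 2, 0, -2, 0, 0, -4, -2, 0, 2, 0, 0, 0, 0, 0, 0, 2]),
  ([0, -2, -2, 0, -2, 0, 0, -2, 0, 2, 0, 2, 0, 0, 2, 0, 0, 0, 0, 0, 0, 0, 0, 2],
   [-1, -1, -1, -1, -1, 1, -1, -3, -1, 1, 1, -1, -1, 1, -1, -1, -1, 1, -1, -1, -1, 1, 1, -1]),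
  ([0, -2, -2, 0, -2, 0, 0, 2, 0, 2, 0, 2, 0, 0, 2, 0, 0, 0, 0, 0, 0, 0, 0, -2],
   [0, 0, 0, 0, 0, 0, 0, 0, 0, 2, 2, 0, -2, 0, 0, -2, 0, 2, 0, 2, 0, 0, -2, -2]),
  ([0, -2, -2, 0, -2, 2, 2, -2, 0, 0, 0, 0, 0, 0, 0, 0, 0, 2, 0, 0, 0, 0, 2, 0],
   [2, 0, 2, 4, -2, -2, 0, 0, 0, 0, 0, 0, -2, -2, 0, 2, 0, -2, -2, 2, 2, -2, 0, 0]),
  ([0, -2, -2, 0, 0, -2, 0, 0, 0, 0, 0, 2, 0, 0, 0, -2, 0, 0, 0, 2, 0, 0, 2, 2],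
   [2, 0, 0, 0, 0, 0, 0, 0, 0, 0, -2, 0, 0, 0, 0, 2, 0, 2, -2, 0, 2, -2, -2, 0]),
  ([0, -2, -2, 0, 0, -2, 0, 0, 0, 0, 0, 2, 0, 0, 0, 2, 0, 0, 0, -2, 0, 0, 2, 2],
   [-1, -1, 1, -5, 1, 1, -1, -3, 1, 1, -1, -1, 1, -1, -3, 1, 1, 3, -1, -1, -1, 1, 3, 1]),
  ([0, -2, -2, 0, 0, -2, 2, 0, -2, 2, 0, 0, 0, 0, 0, 0, 2, 0, 0, 0, 0, 0, 0, 2],
   [2, 0, 0, 0, 0, 0, 0, 0, -2, 2, -2, 0, 0, 2, -2, 0, 0, 0, 0, 0, -2, 2, 0, 0]),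
  ([0, -2, -2, 0, 0, -2, 2, 0, 2, 2, 0, 0, 0, 0, 0, 0, -2, 0, 0, 0, 0, 0, 0, 2],
   [1, -1, 1, 1, -1, -1, -1, -1, 3, 3, -1, 3, -3, -1, -3, 1, -3, -1, -3, 1, 1, -3, 1, 3]),
  ([0, -2, -2, 0, 0, 0, 0, 0, 0, 2, 0, 2, 0, -2, 0, 2, -2, 0, 2, 0, 0, 0, 0, 0],
   [0, -2, 0, -2, -2, -2, -2, -2, 2, 0, -2, 2, -2, 0, -2, 0, -2, -2, -2, 0, 2, 0, 0, 2]),
  ([0, -2, 0, 0, -2, -2, 0, 0, 0, 0, 0, 2, 0, 0, 0, 0, -2, 2, 2, 0, 0, 0, 0, 2],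
   [-2, 2, 4, -4, 0, 0, -2, 0, 0, 0, -2, -2, -2, 0, 0, 0, 0, 0, 0, 0, -2, 2, 0, 0])]

theorem val6 : eqL (apZ Q6 betaL) (foldZ M (wd 79) betaL) = true := by (rewrite [Cfsg.Agent.CoOneType.CoW.of_eq Cfsg.Agent.LThreeCo1.Ev.foldZ_eq, (funext₂ Cfsg.Agent.LThreeCo1.Ev.apZ_eq).trans Cfsg.Agent.CoOneType.CoAp.ap_F]; decide +kernel)
theorem val12 : eqL (apZ Q12 betaL) (foldZ M (wd 4) betaL) = true := by (rewrite [Cfsg.Agent.CoOneType.CoW.of_eq Cfsg.Agent.LThreeCo1.Ev.foldZ_eq, (funext₂ Cfsg.Agent.LThreeCo1.Ev.apZ_eq).trans Cfsg.Agent.CoOneType.CoAp.ap_F]; decide +kernel)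

theorem eq_word {Q : List (List ℤ)} {C : List (List ℤ)} (ok : Ok Q C) {w : List ℕ}
    (h : eqL (apZ Q betaL) (foldZ M w betaL) = true) : mk ok = (w.map e).prod := by
  have h2 := (fold_spec rep w (l := betaL) (v := beta) (by decide) rfl).2
  have h1 := (rep_mk ok).apply (v := beta) (l := betaL) (by decide) rfl
  rw [apZ_eq, foldZ_eq] at h
  rw [eqL_eq h, ← h2] at h1
  exact eq_of_fix (Subtype.ext h1)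

theorem rep6 : Rep c6 Q6 := by
  have h := rep_mk ok6
  rwa [eq_word ok6 val6, wd_prod] at h

theorem rep12 : Rep c12 Q12 := by
  have h := rep_mk ok12
  rwa [eq_word ok12 val12, wd_prod] at h

theorem rep8 : Rep c8 (M 29) := rep 29

theorem c0_eq : c0 = e 1 := by
  have h := wd_prod 1
  have e1 : wd 1 = [1] := by decide
  rw [e1] at h
  simp only [List.map_cons, List.map_nil, List.prod_cons, List.prod_nil, mul_one] at h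
  exact h.symm

theorem rep0 : Rep c0 (M 1) := by rw [c0_eq]; exact rep 1

theorem fr_c0 : fr (QuotientGroup.mk c0 : Co1) = 1 := by
  have h := card_fix rep0 (vw := []) rfl rfl rfl (by exact Cfsg.Agent.LThreeMB.SpanQ.span3 (by decide +kernel))
  rwa [List.length_nil, pow_zero] at h

theorem fr_c6 : fr (QuotientGroup.mk c6 : Co1) = 2 ^ 6 :=
  card_fix rep6 (vw := v6) (by decide +kernel) (by (delta Cfsg.Agent.LThreeMB.Fix.fixB; rewrite [Cfsg.Agent.CoOneType.CoAp.ap_F]; decide +kernel)) (by (delta Cfsg.Agent.LThreeMB.Fix.dualB; rewrite [Cfsg.Agent.CoOneType.CoQ.dotL_F]; decide +kernel)) (by exact Cfsg.Agent.LThreeMB.SpanQ.span3 (by decide +kernel))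

theorem fr_c8 : fr (QuotientGroup.mk c8 : Co1) = 2 ^ 8 :=
  card_fix rep8 (vw := v8) (by decide +kernel) (by (delta Cfsg.Agent.LThreeMB.Fix.fixB; rewrite [Cfsg.Agent.CoOneType.CoAp.ap_F]; decide +kernel)) (by (delta Cfsg.Agent.LThreeMB.Fix.dualB; rewrite [Cfsg.Agent.CoOneType.CoQ.dotL_F]; decide +kernel)) (by exact Cfsg.Agent.LThreeMB.SpanQ.span3 (by decide +kernel))

theorem fr_c12 : fr (QuotientGroup.mk c12 : Co1) = 2 ^ 12 :=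
  card_fix rep12 (vw := v12) (by decide +kernel) (by (delta Cfsg.Agent.LThreeMB.Fix.fixB; rewrite [Cfsg.Agent.CoOneType.CoAp.ap_F]; decide +kernel)) (by (delta Cfsg.Agent.LThreeMB.Fix.dualB; rewrite [Cfsg.Agent.CoOneType.CoQ.dotL_F]; decide +kernel)) (by exact Cfsg.Agent.LThreeMB.SpanQ.span3 (by decide +kernel))

/-! ### Elements of `Co1` -/

/-- an element of order three lifts to an element of order three -/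
theorem exists_lift {s : Co1} (hs : orderOf s = 3) : ∃ g : Co0, orderOf g = 3 ∧ QuotientGroup.mk g = s := by
  obtain ⟨g, rfl⟩ := QuotientGroup.mk_surjective s
  have h1 : g ^ 3 ∈ Subgroup.center Co0 := by
    rw [← QuotientGroup.eq_one_iff, QuotientGroup.mk_pow, ← hs, pow_orderOf_eq_one]
  have hc : Nat.card (Subgroup.center Co0) = 2 := Cfsg.Agent.S0398.result
  have h2 : ∀ u ∈ Subgroup.center Co0, u ^ 2 = 1 := by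
    intro u hu
    have h3 := pow_card_eq_one' (G := Subgroup.center Co0) (x := ⟨u, hu⟩)
    rw [hc] at h3
    exact congrArg Subtype.val h3
  have h4 : (g ^ 3) ^ 2 = 1 := h2 _ h1
  -- `g * (g^3)` has order three
  refine ⟨g * g ^ 3, ?_, ?_⟩
  · have : Fact (Nat.Prime 3) := ⟨Nat.prime_three⟩
    refine orderOf_eq_prime ?_ ?_
    · calc (g * g ^ 3) ^ 3 = (g ^ 3) ^ 2 * (g ^ 3) ^ 2 := by rw [← pow_succ', ← pow_mul, ← pow_mul, ← pow_add]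
        _ = 1 := by rw [h4, one_mul]
    · intro h5
      have h6 : g ∈ Subgroup.center Co0 := by
        have : g = (g ^ 3)⁻¹ := eq_inv_of_mul_eq_one_left h5
        rw [this]; exact inv_mem h1
      rw [(QuotientGroup.eq_one_iff g).2 h6, orderOf_one] at hs
      norm_num at hs
  · rw [QuotientGroup.mk_mul, (QuotientGroup.eq_one_iff (g ^ 3)).2 h1, mul_one]

/-- **Classes of elements of order three in `Co1`.** -/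
theorem classes {s : Co1} (hs : orderOf s = 3) : ∃ c : Co0, (c = c0 ∨ c = c6 ∨ c = c8 ∨ c = c12) ∧
    ∃ g : Co1, g * s * g⁻¹ = QuotientGroup.mk c := by
  obtain ⟨h, hh, rfl⟩ := exists_lift hs
  have key : ∀ c : Co0, IsConj h c → ∃ g : Co1, g * QuotientGroup.mk h * g⁻¹ = QuotientGroup.mk c := by
    intro c hc
    obtain ⟨g, hg⟩ := isConj_iff.1 hc
    exact ⟨QuotientGroup.mk g, by rw [← hg]; rfl⟩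
  rcases Class.main hh with h1 | h1 | h1 | h1
  · exact ⟨c0, Or.inl rfl, key _ h1⟩
  · exact ⟨c6, Or.inr (Or.inl rfl), key _ h1⟩
  · exact ⟨c8, Or.inr (Or.inr (Or.inl rfl)), key _ h1⟩
  · exact ⟨c12, Or.inr (Or.inr (Or.inr rfl)), key _ h1⟩

theorem ranks (s : Co1) (hs : orderOf s = 3) : fr s = 1 ∨ fr s = 2 ^ 6 ∨ fr s = 2 ^ 8 ∨ fr s = 2 ^ 12 := by
  obtain ⟨c, hc, g, hg⟩ := classes hs
  have h := fr_conj g s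
  rw [hg] at h
  rw [← h]
  rcases hc with rfl | rfl | rfl | rfl
  · exact Or.inl fr_c0
  · exact Or.inr (Or.inl fr_c6)
  · exact Or.inr (Or.inr (Or.inl fr_c8))
  · exact Or.inr (Or.inr (Or.inr fr_c12))

/-- an element of given rank is conjugate to the representative -/
theorem conj_rep {n : ℕ} {c : Co0} (hc : ∀ d, (d = c0 ∨ d = c6 ∨ d = c8 ∨ d = c12) →
    fr (QuotientGroup.mk d : Co1) = n → d = c) {s : Co1} (hs : orderOf s = 3) (hn : fr s = n) :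
    ∃ g : Co1, g * s * g⁻¹ = QuotientGroup.mk c := by
  obtain ⟨d, hd, g, hg⟩ := classes hs
  have h := fr_conj g s
  rw [hg, hn] at h
  exact ⟨g, by rw [hg, hc d hd h]⟩

theorem classOf_of {n : ℕ} {c : Co0} (hc : ∀ d, (d = c0 ∨ d = c6 ∨ d = c8 ∨ d = c12) →
    fr (QuotientGroup.mk d : Co1) = n → d = c) : ClassOf n := by
  intro s t hs ht hfs hft
  obtain ⟨g, hg⟩ := conj_rep hc hs hfs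
  obtain ⟨k, hk⟩ := conj_rep hc ht hft
  refine ⟨k⁻¹ * g, ?_⟩
  have e1 : k⁻¹ * g * s * (k⁻¹ * g)⁻¹ = k⁻¹ * (g * s * g⁻¹) * k := by group
  rw [e1, hg, ← hk]
  group

theorem uniq0 : ∀ d, (d = c0 ∨ d = c6 ∨ d = c8 ∨ d = c12) → fr (QuotientGroup.mk d : Co1) = 1 → d = c0 := by
  rintro d (rfl | rfl | rfl | rfl) h
  · rfl
  · rw [fr_c6] at h; norm_num at h
  · rw [fr_c8] at h; norm_num at h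
  · rw [fr_c12] at h; norm_num at h

theorem uniq6 : ∀ d, (d = c0 ∨ d = c6 ∨ d = c8 ∨ d = c12) → fr (QuotientGroup.mk d : Co1) = 2 ^ 6 → d = c6 := by
  rintro d (rfl | rfl | rfl | rfl) h
  · rw [fr_c0] at h; norm_num at h
  · rfl
  · rw [fr_c8] at h; norm_num at h
  · rw [fr_c12] at h; norm_num at h

theorem uniq8 : ∀ d, (d = c0 ∨ d = c6 ∨ d = c8 ∨ d = c12) → fr (QuotientGroup.mk d : Co1) = 2 ^ 8 → d = c8 := by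
  rintro d (rfl | rfl | rfl | rfl) h
  · rw [fr_c0] at h; norm_num at h
  · rw [fr_c6] at h; norm_num at h
  · rfl
  · rw [fr_c12] at h; norm_num at h

theorem uniq12 : ∀ d, (d = c0 ∨ d = c6 ∨ d = c8 ∨ d = c12) → fr (QuotientGroup.mk d : Co1) = 2 ^ 12 → d = c12 := by
  rintro d (rfl | rfl | rfl | rfl) h
  · rw [fr_c0] at h; norm_num at h
  · rw [fr_c6] at h; norm_num at h
  · rw [fr_c8] at h; norm_num at h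
  · rfl

theorem zero : ClassOf 1 := classOf_of uniq0
theorem six : ClassOf (2 ^ 6) := classOf_of uniq6
theorem eight : ClassOf (2 ^ 8) := classOf_of uniq8
theorem twelve : ClassOf (2 ^ 12) := classOf_of uniq12

end Cfsg.Agent.LThreeCo1.Ranks
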