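import Cfsg.Agent.LThreeCo1.Ev
set_option linter.all false

-- part: LThreeCo1/MatB
section
/-!
# Explicit elements of `Co0` (helper53; generated)
-/

set_option autoImplicit false
set_option maxRecDepth 20000

namespace Cfsg.Agent.LThreeCo1.Mats

open Cfsg.Agent.LThreeCo1.Ev Cfsg.Agent.SporadicStructure.Co0Matrix Cfsg.Agent.CoOneType.CoEval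

/-- matrix -/
def R5 : List (List ℤ) := [
  [5, -1, 1, 3, -1, 1, -1, 1, 1, 1, -1, -1, -3, 1, -1, 1, 1, -1, 1, 1, 1, 1, 1, 1],
  [1, 3, 1, -1, -1, 1, -1, 1, 1, 1, -1, 3, 1, -3, -1, 1, -3, 3, 1, 1, 1, 1, 1, 1],
  [-1, 1, 3, 1, 1, -1, 1, -1, 3, -1, 1, 1, -1, 3, -3, -1, -1, 1, -1, -1, -1, -1, 3, -1],
  [3, 1, -1, 5, 1, -1, 1, -1, -1, -1, 1, 1, 3, -1, 1, -1, -1, 1, -1, -1, -1, -1, -1, -1],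
  [-1, 1, -1, 1, 1, -1, -3, 3, -1, 3, 1, 1, -1, 3, 1, -1, -1, 1, -1, -1, -1, 3, -1, -1],
  [-1, 1, -1, 1, 1, -1, 1, 3, 3, -1, 1, 1, -1, -1, 1, -1, -1, -3, -1, 3, -1, -1, -1, 3],
  [1, 3, 1, -1, -1, 1, 3, 1, 1, 1, -1, -1, 1, 1, 3, 1, 1, -1, -3, -3, 1, 1, 1, 1],
  [-1, 1, -1, 1, -3, 3, 1, -1, -1, -1, 1, 1, -1, 3, 1, -1, -1, 1, 3, -1, -1, -1, -1, 3],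
  [1, -1, 1, -1, -1, -3, 3, 1, 1, 1, 3, -1, 1, 1, -1, 1, 1, 3, 1, 1, 1, 1, -3, 1],
  [-1, 1, 3, 1, 1, -1, 1, -1, -1, 3, 1, 1, -1, -1, 1, 3, -1, -3, 3, -1, -1, -1, -1, -1],
  [1, -1, 1, -1, -1, 1, -1, 1, 1, 1, 3, -1, 1, -3, -1, -3, 1, -1, 1, -3, -3, 1, 1, 1],
  [1, -1, 1, -1, 3, 1, 3, 1, -3, 1, -1, 3, 1, 1, -1, -3, 1, -1, 1, 1, 1, 1, 1, 1],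
  [-3, -1, 1, 3, -1, 1, -1, 1, 1, 1, -1, -1, 5, 1, -1, 1, 1, -1, 1, 1, 1, 1, 1, 1],
  [1, -1, 1, -1, -1, 1, -1, -3, 1, 1, -1, 3, 1, 1, -1, 1, 1, -1, -3, 1, -3, 1, -3, 1],
  [-1, -3, -1, 1, 1, -1, 1, -1, -1, -1, 1, 1, -1, -1, 1, 3, -1, 1, -1, -1, -1, 3, 3, 3],
  [1, -1, -3, -1, -1, 1, 3, 1, 1, 1, -1, -1, 1, 1, -1, 1, -3, -1, 1, 1, -3, 1, 1, -3],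
  [1, -1, 1, -1, -1, 1, -1, 1, 1, -3, 3, 3, 1, 1, 3, 1, 1, -1, 1, 1, 1, 1, 1, -3],
  [-1, 1, 3, 1, 1, 3, 1, -1, -1, -1, 1, -3, -1, -1, 1, -1, -1, 1, -1, 3, -1, 3, -1, -1],
  [1, 3, -3, -1, 3, 1, -1, -3, 1, 1, 3, -1, 1, 1, -1, 1, 1, -1, 1, 1, 1, 1, 1, 1],
  [1, 3, 1, -1, -1, -3, -1, 1, -3, -3, -1, -1, 1, 1, -1, 1, 1, -1, 1, 1, -3, 1, 1, 1],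
  [-1, 1, -1, 1, -3, -1, 1, -1, -1, -1, 1, 1, -1, -1, -3, -1, -1, -3, -1, -1, 3, 3, -1, -1],
  [-1, 1, -1, 1, 1, -1, 1, -1, 3, -1, -3, 1, -1, -1, 1, -1, 3, 1, 3, -1, -1, 3, -1, -1],
  [-1, 1, -1, 1, -3, -1, 1, -1, -1, 3, 1, 1, -1, -1, 1, -1, 3, 1, -1, 3, -1, -1, 3, -1],
  [-1, 1, -1, 1, 1, 3, 1, 3, -1, -1, 1, 1, -1, -1, -3, 3, 3, 1, -1, -1, -1, -1, -1, -1]]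

theorem ok5 : Ok R5 (tr R5) := Cfsg.Agent.CoOneType.CoFast.ok_of_okZ (by decide +kernel)

/-- matrix -/
def R6 : List (List ℤ) := [
  [5, -1, 1, 3, 1, -1, -1, -1, -1, 1, 1, -1, 3, -1, 1, -1, -1, 1, -1, -1, -1, -1, 1, -1],
  [1, 3, 1, -1, 1, -1, 3, -1, -1, 1, 1, -1, -1, -1, -3, -1, -1, 1, 3, 3, -1, -1, 1, -1],
  [-1, 1, -1, 1, 3, 1, 1, 1, 1, 3, -1, 1, 1, 1, -1, 1, -3, -1, 1, -3, 1, 1, 3, 1],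
  [3, 1, -1, 5, -1, 1, 1, 1, 1, -1, -1, 1, -3, 1, -1, 1, 1, -1, 1, 1, 1, 1, -1, 1],
  [1, -1, -3, -1, 1, 3, -1, -1, -1, 1, 1, 3, -1, -1, 1, -1, -1, 1, -1, 3, -1, 3, 1, -1],
  [1, -1, 1, -1, 1, 3, -1, 3, -1, 1, 1, -1, -1, -1, -3, 3, 3, 1, -1, -1, -1, -1, 1, -1],
  [1, -1, 1, -1, -3, -1, 3, -1, 3, 1, 1, 3, -1, -1, 1, 3, -1, 1, -1, -1, -1, -1, 1, -1],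
  [1, -1, 1, -1, 1, -1, -1, 3, 3, 1, 1, -1, -1, -1, 1, -1, -1, -3, -1, 3, -1, -1, 1, 3],
  [-1, 1, -1, 1, -1, 1, 1, 1, 1, 3, 3, -3, 1, 1, 3, 1, 1, -1, 1, 1, 1, 1, -1, -3],
  [-1, 1, 3, 1, -1, 1, 1, 1, -3, -1, -1, 1, 1, -3, 3, 1, 1, -1, 1, 1, 1, 1, 3, 1],
  [-1, 1, -1, 1, -1, 1, 1, 1, 1, -1, 3, 1, 1, -3, -1, -3, 1, -1, 1, -3, -3, 1, -1, 1],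
  [1, 3, 1, -1, 1, -1, -1, -1, -1, 1, 1, 3, -1, 3, 1, -1, 3, -3, -1, -1, -1, -1, 1, -1],
  [3, 1, -1, -3, -1, 1, 1, 1, 1, -1, -1, 1, 5, 1, -1, 1, 1, -1, 1, 1, 1, 1, -1, 1],
  [-1, -3, -1, 1, -1, -3, 1, 1, -3, 3, -1, 1, 1, 1, -1, 1, 1, -1, 1, 1, -3, 1, -1, 1],
  [1, -1, 1, -1, 1, -1, 3, 3, -1, -3, 1, -1, -1, 3, 1, -1, -1, 1, -1, -1, -1, 3, 1, -1],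
  [-1, 1, -1, 1, -1, 1, 1, -3, 1, -1, -1, -3, 1, 1, -1, 1, 1, -1, -3, 1, -3, 1, 3, 1],
  [-1, -3, 3, 1, 3, 1, 1, -3, 1, -1, 3, 1, 1, 1, -1, 1, 1, -1, 1, 1, 1, 1, -1, 1],
  [1, 3, 1, -1, 1, -1, -1, -1, -1, 1, 1, -1, -1, -1, 1, 3, -1, 1, -1, -1, -1, 3, -3, 3],
  [-1, 1, -1, 1, -1, -3, -3, 1, 1, -1, 3, 1, 1, 1, -1, 1, 1, 3, 1, 1, 1, 1, 3, 1],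
  [-1, 1, 3, 1, -1, 1, -3, 1, 1, -1, -1, 1, 1, 1, -1, 1, -3, -1, 1, 1, -3, 1, -1, -3],
  [1, -1, 1, -1, -3, -1, -1, -1, -1, 1, 1, -1, -1, -1, -3, -1, -1, -3, -1, -1, 3, 3, 1, -1],
  [1, -1, 1, -1, 1, -1, -1, -1, 3, 1, -3, -1, -1, -1, 1, -1, 3, 1, 3, -1, -1, 3, 1, -1],
  [-1, 1, 3, 1, -1, 1, 1, 1, 1, 3, -1, 1, 1, 1, -1, -3, 1, 3, -3, 1, 1, 1, -1, 1],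
  [1, -1, 1, -1, -3, 3, -1, -1, -1, 1, 1, -1, -1, 3, 1, -1, -1, 1, 3, -1, -1, -1, 1, 3]]

theorem ok6 : Ok R6 (tr R6) := Cfsg.Agent.CoOneType.CoFast.ok_of_okZ (by decide +kernel)

/-- matrix -/
def R7 : List (List ℤ) := [
  [4, 0, 0, 0, 0, 0, 0, -4, 0, 0, 0, 0, 4, 0, 0, 0, 0, 0, 0, 0, 0, 0, 0, 4],
  [0, 4, 0, 0, 0, 0, 0, 0, 0, 0, 0, 0, 0, -4, -4, 0, 0, 0, 0, 0, -4, 0, 0, 0],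
  [4, 0, 0, 0, 0, 0, 0, 4, 0, 0, 0, 0, -4, 0, 0, 0, 0, 0, 0, 0, 0, 0, 0, 4],
  [0, 0, 0, 4, 0, 0, 0, 0, 4, 0, 0, 0, 0, 0, 0, 0, 0, -4, 0, 4, 0, 0, 0, 0],
  [0, 0, 0, 0, 4, 0, 0, 0, 0, 0, 0, 4, 0, 0, 0, 0, -4, 0, 0, 0, 0, 4, 0, 0],
  [0, 0, 4, 0, 0, 4, 0, 0, 0, 4, 0, 0, 0, 0, 0, 0, 0, 0, 0, 0, 0, 0, -4, 0],
  [0, 0, 0, 0, 0, 0, 4, 0, 0, 0, 4, 0, 0, 0, 0, 4, 0, 0, -4, 0, 0, 0, 0, 0],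
  [0, 0, -4, 0, 0, 4, 0, 0, 0, 4, 0, 0, 0, 0, 0, 0, 0, 0, 0, 0, 0, 0, 4, 0],
  [0, 0, 0, 0, 0, 0, 4, 0, 0, 0, -4, 0, 0, 0, 0, 4, 0, 0, 4, 0, 0, 0, 0, 0],
  [-4, 0, 0, 0, 0, 0, 0, 4, 0, 0, 0, 0, 4, 0, 0, 0, 0, 0, 0, 0, 0, 0, 0, 4],
  [0, 0, 0, 0, 0, 0, 4, 0, 0, 0, 4, 0, 0, 0, 0, -4, 0, 0, 4, 0, 0, 0, 0, 0],
  [0, 0, 0, 0, 4, 0, 0, 0, 0, 0, 0, 4, 0, 0, 0, 0, 4, 0, 0, 0, 0, -4, 0, 0],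
  [4, 0, 0, 0, 0, 0, 0, 4, 0, 0, 0, 0, 4, 0, 0, 0, 0, 0, 0, 0, 0, 0, 0, -4],
  [0, 0, 0, 0, -4, 0, 0, 0, 0, 0, 0, 4, 0, 0, 0, 0, 4, 0, 0, 0, 0, 4, 0, 0],
  [0, -4, 0, 0, 0, 0, 0, 0, 0, 0, 0, 0, 0, -4, 4, 0, 0, 0, 0, 0, -4, 0, 0, 0],
  [0, 0, 0, 4, 0, 0, 0, 0, 4, 0, 0, 0, 0, 0, 0, 0, 0, 4, 0, -4, 0, 0, 0, 0],
  [0, -4, 0, 0, 0, 0, 0, 0, 0, 0, 0, 0, 0, 4, -4, 0, 0, 0, 0, 0, -4, 0, 0, 0],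
  [0, 0, 0, -4, 0, 0, 0, 0, 4, 0, 0, 0, 0, 0, 0, 0, 0, 4, 0, 4, 0, 0, 0, 0],
  [0, 0, 0, 4, 0, 0, 0, 0, -4, 0, 0, 0, 0, 0, 0, 0, 0, 4, 0, 4, 0, 0, 0, 0],
  [0, 0, 0, 0, 0, 0, -4, 0, 0, 0, 4, 0, 0, 0, 0, 4, 0, 0, 4, 0, 0, 0, 0, 0],
  [0, 0, 0, 0, 4, 0, 0, 0, 0, 0, 0, -4, 0, 0, 0, 0, 4, 0, 0, 0, 0, 4, 0, 0],
  [0, -4, 0, 0, 0, 0, 0, 0, 0, 0, 0, 0, 0, -4, -4, 0, 0, 0, 0, 0, 4, 0, 0, 0],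
  [0, 0, 4, 0, 0, -4, 0, 0, 0, 4, 0, 0, 0, 0, 0, 0, 0, 0, 0, 0, 0, 0, 4, 0],
  [0, 0, 4, 0, 0, 4, 0, 0, 0, -4, 0, 0, 0, 0, 0, 0, 0, 0, 0, 0, 0, 0, 4, 0]]

theorem ok7 : Ok R7 (tr R7) := Cfsg.Agent.CoOneType.CoFast.ok_of_okZ (by decide +kernel)

/-- matrix -/
def R8 : List (List ℤ) := [
  [-2, -2, -2, 2, -2, 0, 0, 0, 0, 2, 0, 2, -2, 2, -2, -2, 2, -2, -2, 0, 2, -2, 0, 0],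
  [2, 2, -2, 2, 2, 0, 0, 0, 0, 2, 0, 2, 2, 2, -2, 2, -2, -2, 2, 0, -2, -2, 0, 0],
  [0, 0, 0, 0, 0, -2, 2, 2, 2, 0, -2, 0, 0, 0, 4, 0, 0, 0, 0, 2, 0, -4, -2, -2],
  [-2, 2, 2, 2, -2, 0, 0, 0, 0, -2, 0, -2, -2, -2, -2, 2, -2, -2, 2, 0, 2, -2, 0, 0],
  [0, 0, 0, 0, 0, 2, 2, 2, -2, 0, -2, 4, 0, -4, 0, 0, 0, 0, 0, -2, 0, 0, 2, -2],
  [0, 0, -4, 0, 0, 2, 2, 2, 2, -4, 2, 0, 0, 0, 0, 0, 0, 0, 0, -2, 0, 0, -2, 2],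
  [0, 0, -4, 0, 0, -2, -2, -2, -2, -4, -2, 0, 0, 0, 0, 0, 0, 0, 0, 2, 0, 0, 2, -2],
  [-4, 0, 0, 0, 0, -2, 2, -2, 2, 0, 2, 0, 4, 0, 0, 0, 0, 0, 0, -2, 0, 0, 2, -2],
  [0, 0, 0, 4, 0, 2, -2, -2, 2, 0, -2, 0, 0, 0, 0, 0, 0, 4, 0, -2, 0, 0, -2, -2],
  [0, 0, 0, 0, -4, -2, 2, -2, -2, 0, -2, 0, 0, 0, 0, 0, 0, 0, 0, -2, -4, 0, -2, 2],
  [0, 0, 0, 0, 0, 2, 2, -2, -2, 0, 2, 0, 0, 0, 0, -4, 0, 0, 4, 2, 0, 0, -2, -2],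
  [-2, 2, 2, -2, 2, 0, 0, 0, 0, -2, 0, 2, -2, 2, -2, -2, -2, 2, -2, 0, -2, -2, 0, 0],
  [-2, -2, 2, 2, 2, 0, 0, 0, 0, -2, 0, 2, -2, 2, 2, 2, 2, -2, 2, 0, -2, 2, 0, 0],
  [-2, -2, -2, -2, 2, 0, 0, 0, 0, 2, 0, -2, -2, -2, -2, 2, 2, 2, 2, 0, -2, -2, 0, 0],
  [0, -4, 0, 0, 0, -2, -2, 2, -2, 0, 2, 0, 0, 0, 0, 0, -4, 0, 0, -2, 0, 0, -2, -2],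
  [0, 0, 0, 0, 0, -2, 2, 2, 2, 0, -2, 0, 0, 0, -4, 0, 0, 0, 0, 2, 0, 4, -2, -2],
  [-2, 2, -2, -2, -2, 0, 0, 0, 0, 2, 0, 2, -2, 2, 2, 2, -2, 2, 2, 0, 2, 2, 0, 0],
  [2, -2, 2, -2, -2, 0, 0, 0, 0, -2, 0, 2, 2, 2, -2, 2, 2, 2, 2, 0, 2, -2, 0, 0],
  [0, 0, 0, 0, -4, 2, -2, 2, 2, 0, 2, 0, 0, 0, 0, 0, 0, 0, 0, 2, -4, 0, 2, -2],
  [0, 0, 0, 4, 0, -2, 2, 2, -2, 0, 2, 0, 0, 0, 0, 0, 0, 4, 0, 2, 0, 0, 2, 2],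
  [0, -4, 0, 0, 0, 2, 2, -2, 2, 0, -2, 0, 0, 0, 0, 0, -4, 0, 0, 2, 0, 0, 2, 2],
  [0, 0, 0, 0, 0, 2, 2, 2, -2, 0, -2, -4, 0, 4, 0, 0, 0, 0, 0, -2, 0, 0, 2, -2],
  [0, 0, 0, 0, 0, 2, 2, -2, -2, 0, 2, 0, 0, 0, 0, 4, 0, 0, -4, 2, 0, 0, -2, -2],
  [4, 0, 0, 0, 0, -2, 2, -2, 2, 0, 2, 0, -4, 0, 0, 0, 0, 0, 0, -2, 0, 0, 2, -2]]

theorem ok8 : Ok R8 (tr R8) := Cfsg.Agent.CoOneType.CoFast.ok_of_okZ (by decide +kernel)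

end Cfsg.Agent.LThreeCo1.Mats
end

-- part: LThreeCo1/MatC
section
/-!
# Explicit elements of `Co0` (helper53; generated)
-/

set_option autoImplicit false
set_option maxRecDepth 20000

namespace Cfsg.Agent.LThreeCo1.Mats

open Cfsg.Agent.LThreeCo1.Ev Cfsg.Agent.SporadicStructure.Co0Matrix Cfsg.Agent.CoOneType.CoEval

/-- matrix -/
def R9 : List (List ℤ) := [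
  [2, -2, 0, 2, 0, 0, 0, 0, 0, 0, 0, 2, 6, -2, 0, 0, -2, 2, 0, 0, 0, 0, 0, 0],
  [2, 6, 0, 2, 0, 0, 0, 0, 0, 0, 0, 2, -2, -2, 0, 0, -2, 2, 0, 0, 0, 0, 0, 0],
  [0, 0, -2, 0, 2, 2, 2, 2, -2, 2, -2, 0, 0, 0, 2, 2, 0, 0, 2, 2, -2, 2, 2, 2],
  [-2, 2, 0, 6, 0, 0, 0, 0, 0, 0, 0, -2, 2, 2, 0, 0, 2, -2, 0, 0, 0, 0, 0, 0],
  [0, 0, -2, 0, 2, 2, -2, 2, -2, 2, -2, 0, 0, 0, -2, -2, 0, 0, -2, -2, -2, -2, -2, -2],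
  [0, 0, 2, 0, -2, -2, -2, 2, 2, 2, -2, 0, 0, 0, 2, -2, 0, 0, 2, -2, -2, -2, 2, 2],
  [0, 0, -2, 0, -2, 2, 2, 2, 2, -2, 2, 0, 0, 0, 2, 2, 0, 0, -2, -2, -2, -2, -2, 2],
  [0, 0, 2, 0, -2, 2, -2, -2, -2, 2, 2, 0, 0, 0, -2, 2, 0, 0, -2, -2, -2, 2, 2, 2],
  [0, 0, 2, 0, -2, -2, 2, 2, 2, 2, -2, 0, 0, 0, -2, 2, 0, 0, -2, 2, -2, 2, -2, -2],
  [0, 0, 2, 0, -2, 2, 2, 2, -2, -2, -2, 0, 0, 0, -2, -2, 0, 0, -2, 2, 2, -2, 2, 2],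
  [0, 0, 2, 0, -2, 2, 2, -2, -2, 2, 2, 0, 0, 0, 2, -2, 0, 0, 2, 2, -2, -2, -2, -2],
  [-2, 2, 0, -2, 0, 0, 0, 0, 0, 0, 0, 6, 2, 2, 0, 0, 2, -2, 0, 0, 0, 0, 0, 0],
  [6, 2, 0, -2, 0, 0, 0, 0, 0, 0, 0, -2, 2, 2, 0, 0, 2, -2, 0, 0, 0, 0, 0, 0],
  [2, -2, 0, 2, 0, 0, 0, 0, 0, 0, 0, 2, -2, 6, 0, 0, -2, 2, 0, 0, 0, 0, 0, 0],
  [0, 0, -2, 0, -2, -2, 2, 2, -2, 2, 2, 0, 0, 0, 2, -2, 0, 0, -2, -2, 2, 2, 2, -2],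
  [0, 0, -2, 0, -2, 2, 2, -2, 2, 2, -2, 0, 0, 0, -2, 2, 0, 0, 2, -2, 2, -2, 2, -2],
  [2, -2, 0, 2, 0, 0, 0, 0, 0, 0, 0, 2, -2, -2, 0, 0, 6, 2, 0, 0, 0, 0, 0, 0],
  [-2, 2, 0, -2, 0, 0, 0, 0, 0, 0, 0, -2, 2, 2, 0, 0, 2, 6, 0, 0, 0, 0, 0, 0],
  [0, 0, -2, 0, -2, -2, -2, 2, -2, 2, 2, 0, 0, 0, -2, 2, 0, 0, 2, 2, 2, -2, -2, 2],
  [0, 0, -2, 0, -2, 2, -2, 2, 2, -2, 2, 0, 0, 0, -2, -2, 0, 0, 2, 2, -2, 2, 2, -2],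
  [0, 0, 2, 0, -2, 2, -2, 2, -2, -2, -2, 0, 0, 0, 2, 2, 0, 0, 2, -2, 2, 2, -2, -2],
  [0, 0, -2, 0, -2, 2, -2, -2, 2, 2, -2, 0, 0, 0, 2, -2, 0, 0, -2, 2, 2, 2, -2, 2],
  [0, 0, 2, 0, 2, 2, 2, 2, 2, 2, 2, 0, 0, 0, -2, -2, 0, 0, 2, -2, 2, 2, -2, 2],
  [0, 0, 2, 0, 2, 2, -2, 2, 2, 2, 2, 0, 0, 0, 2, 2, 0, 0, -2, 2, 2, -2, 2, -2]]

theorem ok9 : Ok R9 (tr R9) := Cfsg.Agent.CoOneType.CoFast.ok_of_okZ (by decide +kernel)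

/-- matrix -/
def R10 : List (List ℤ) := [
  [8, 0, 0, 0, 0, 0, 0, 0, 0, 0, 0, 0, 0, 0, 0, 0, 0, 0, 0, 0, 0, 0, 0, 0],
  [0, 0, 0, 0, 0, 0, 0, 0, 0, 0, 0, -8, 0, 0, 0, 0, 0, 0, 0, 0, 0, 0, 0, 0],
  [0, 0, 0, 0, 0, 0, 0, 0, 0, -8, 0, 0, 0, 0, 0, 0, 0, 0, 0, 0, 0, 0, 0, 0],
  [0, 0, 0, 8, 0, 0, 0, 0, 0, 0, 0, 0, 0, 0, 0, 0, 0, 0, 0, 0, 0, 0, 0, 0],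
  [0, 0, 0, 0, 0, 0, 0, 0, 0, 0, 0, 0, 0, 0, 8, 0, 0, 0, 0, 0, 0, 0, 0, 0],
  [0, 0, 0, 0, 0, -8, 0, 0, 0, 0, 0, 0, 0, 0, 0, 0, 0, 0, 0, 0, 0, 0, 0, 0],
  [0, 0, 0, 0, 0, 0, -8, 0, 0, 0, 0, 0, 0, 0, 0, 0, 0, 0, 0, 0, 0, 0, 0, 0],
  [0, 0, 0, 0, 0, 0, 0, 0, 0, 0, 0, 0, 0, 0, 0, 0, 0, 0, 0, 0, 0, 0, 0, -8],
  [0, 0, 0, 0, 0, 0, 0, 0, 0, 0, 0, 0, 0, 0, 0, 0, 0, 0, 0, 8, 0, 0, 0, 0],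
  [0, 0, -8, 0, 0, 0, 0, 0, 0, 0, 0, 0, 0, 0, 0, 0, 0, 0, 0, 0, 0, 0, 0, 0],
  [0, 0, 0, 0, 0, 0, 0, 0, 0, 0, -8, 0, 0, 0, 0, 0, 0, 0, 0, 0, 0, 0, 0, 0],
  [0, -8, 0, 0, 0, 0, 0, 0, 0, 0, 0, 0, 0, 0, 0, 0, 0, 0, 0, 0, 0, 0, 0, 0],
  [0, 0, 0, 0, 0, 0, 0, 0, 0, 0, 0, 0, 8, 0, 0, 0, 0, 0, 0, 0, 0, 0, 0, 0],
  [0, 0, 0, 0, 0, 0, 0, 0, 0, 0, 0, 0, 0, 0, 0, 0, 8, 0, 0, 0, 0, 0, 0, 0],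
  [0, 0, 0, 0, 8, 0, 0, 0, 0, 0, 0, 0, 0, 0, 0, 0, 0, 0, 0, 0, 0, 0, 0, 0],
  [0, 0, 0, 0, 0, 0, 0, 0, 0, 0, 0, 0, 0, 0, 0, 0, 0, 0, 8, 0, 0, 0, 0, 0],
  [0, 0, 0, 0, 0, 0, 0, 0, 0, 0, 0, 0, 0, 8, 0, 0, 0, 0, 0, 0, 0, 0, 0, 0],
  [0, 0, 0, 0, 0, 0, 0, 0, 0, 0, 0, 0, 0, 0, 0, 0, 0, 8, 0, 0, 0, 0, 0, 0],
  [0, 0, 0, 0, 0, 0, 0, 0, 0, 0, 0, 0, 0, 0, 0, 8, 0, 0, 0, 0, 0, 0, 0, 0],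
  [0, 0, 0, 0, 0, 0, 0, 0, 8, 0, 0, 0, 0, 0, 0, 0, 0, 0, 0, 0, 0, 0, 0, 0],
  [0, 0, 0, 0, 0, 0, 0, 0, 0, 0, 0, 0, 0, 0, 0, 0, 0, 0, 0, 0, 0, -8, 0, 0],
  [0, 0, 0, 0, 0, 0, 0, 0, 0, 0, 0, 0, 0, 0, 0, 0, 0, 0, 0, 0, -8, 0, 0, 0],
  [0, 0, 0, 0, 0, 0, 0, 0, 0, 0, 0, 0, 0, 0, 0, 0, 0, 0, 0, 0, 0, 0, -8, 0],
  [0, 0, 0, 0, 0, 0, 0, -8, 0, 0, 0, 0, 0, 0, 0, 0, 0, 0, 0, 0, 0, 0, 0, 0]]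

theorem ok10 : Ok R10 (tr R10) := Cfsg.Agent.CoOneType.CoFast.ok_of_okZ (by decide +kernel)

/-- matrix -/
def R11 : List (List ℤ) := [
  [-4, 4, 0, -4, 0, 0, 0, 0, 0, 0, 0, -4, 0, 0, 0, 0, 0, 0, 0, 0, 0, 0, 0, 0],
  [0, 0, 0, 0, 0, 0, 0, -4, 4, 0, 0, 0, 0, 0, 4, 0, 0, 0, 0, 0, 0, 4, 0, 0],
  [-4, -4, 0, 4, 0, 0, 0, 0, 0, 0, 0, -4, 0, 0, 0, 0, 0, 0, 0, 0, 0, 0, 0, 0],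
  [0, 0, 0, 0, 0, 0, 0, 0, 0, 0, 0, 0, -4, -4, 0, 0, -4, 4, 0, 0, 0, 0, 0, 0],
  [0, 0, 0, 0, 4, 0, 0, 0, 0, 0, 0, 0, 0, 0, 0, 0, 0, 0, 0, -4, 4, 0, 0, 4],
  [0, 0, 4, 0, 0, 0, 4, 0, 0, 4, 0, 0, 0, 0, 0, 0, 0, 0, 0, 0, 0, 0, -4, 0],
  [0, 0, 0, 0, 0, -4, 0, 0, 0, 0, -4, 0, 0, 0, 0, 4, 0, 0, -4, 0, 0, 0, 0, 0],
  [0, 0, -4, 0, 0, 0, 4, 0, 0, 4, 0, 0, 0, 0, 0, 0, 0, 0, 0, 0, 0, 0, 4, 0],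
  [0, 0, 0, 0, 0, 4, 0, 0, 0, 0, -4, 0, 0, 0, 0, 4, 0, 0, 4, 0, 0, 0, 0, 0],
  [4, -4, 0, -4, 0, 0, 0, 0, 0, 0, 0, -4, 0, 0, 0, 0, 0, 0, 0, 0, 0, 0, 0, 0],
  [0, 0, 0, 0, 0, 4, 0, 0, 0, 0, 4, 0, 0, 0, 0, 4, 0, 0, -4, 0, 0, 0, 0, 0],
  [0, 0, 0, 0, -4, 0, 0, 0, 0, 0, 0, 0, 0, 0, 0, 0, 0, 0, 0, -4, 4, 0, 0, -4],
  [4, 4, 0, 4, 0, 0, 0, 0, 0, 0, 0, -4, 0, 0, 0, 0, 0, 0, 0, 0, 0, 0, 0, 0],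
  [0, 0, 0, 0, -4, 0, 0, 0, 0, 0, 0, 0, 0, 0, 0, 0, 0, 0, 0, 4, 4, 0, 0, 4],
  [0, 0, 0, 0, 0, 0, 0, -4, -4, 0, 0, 0, 0, 0, 4, 0, 0, 0, 0, 0, 0, -4, 0, 0],
  [0, 0, 0, 0, 0, 0, 0, 0, 0, 0, 0, 0, 4, 4, 0, 0, -4, 4, 0, 0, 0, 0, 0, 0],
  [0, 0, 0, 0, 0, 0, 0, -4, 4, 0, 0, 0, 0, 0, -4, 0, 0, 0, 0, 0, 0, -4, 0, 0],
  [0, 0, 0, 0, 0, 0, 0, 0, 0, 0, 0, 0, -4, 4, 0, 0, 4, 4, 0, 0, 0, 0, 0, 0],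
  [0, 0, 0, 0, 0, 0, 0, 0, 0, 0, 0, 0, 4, -4, 0, 0, 4, 4, 0, 0, 0, 0, 0, 0],
  [0, 0, 0, 0, 0, -4, 0, 0, 0, 0, 4, 0, 0, 0, 0, 4, 0, 0, 4, 0, 0, 0, 0, 0],
  [0, 0, 0, 0, 4, 0, 0, 0, 0, 0, 0, 0, 0, 0, 0, 0, 0, 0, 0, 4, 4, 0, 0, -4],
  [0, 0, 0, 0, 0, 0, 0, -4, -4, 0, 0, 0, 0, 0, -4, 0, 0, 0, 0, 0, 0, 4, 0, 0],
  [0, 0, -4, 0, 0, 0, 4, 0, 0, -4, 0, 0, 0, 0, 0, 0, 0, 0, 0, 0, 0, 0, -4, 0],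
  [0, 0, 4, 0, 0, 0, 4, 0, 0, -4, 0, 0, 0, 0, 0, 0, 0, 0, 0, 0, 0, 0, 4, 0]]

theorem ok11 : Ok R11 (tr R11) := Cfsg.Agent.CoOneType.CoFast.ok_of_okZ (by decide +kernel)

/-- matrix -/
def R29 : List (List ℤ) := [
  [0, 0, 0, 0, 0, 0, 0, 0, 0, 0, 0, 0, 0, 0, 0, 0, 0, 0, 0, 0, 0, 0, 0, 8],
  [8, 0, 0, 0, 0, 0, 0, 0, 0, 0, 0, 0, 0, 0, 0, 0, 0, 0, 0, 0, 0, 0, 0, 0],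
  [0, 0, 0, 0, 0, 0, 0, 0, 0, 0, 0, 0, 8, 0, 0, 0, 0, 0, 0, 0, 0, 0, 0, 0],
  [0, 0, 0, 0, 0, 0, 0, 0, 0, 0, 0, 0, 0, 0, 0, 0, 8, 0, 0, 0, 0, 0, 0, 0],
  [0, 0, 0, 0, 0, 0, 0, 0, 0, 0, 0, 0, 0, 0, 0, 0, 0, 0, 8, 0, 0, 0, 0, 0],
  [0, 0, 0, 0, 0, 0, 0, 0, 0, 0, 8, 0, 0, 0, 0, 0, 0, 0, 0, 0, 0, 0, 0, 0],
  [0, 0, 0, 0, 0, 0, 0, 0, 0, 0, 0, 0, 0, 0, 0, 0, 0, 0, 0, 0, 8, 0, 0, 0],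
  [0, 0, 0, 0, 0, 0, 0, 0, 0, 0, 0, 0, 0, 0, 8, 0, 0, 0, 0, 0, 0, 0, 0, 0],
  [0, 0, 0, 0, 0, 0, 0, 0, 0, 0, 0, 0, 0, 0, 0, 0, 0, 0, 0, 0, 0, 8, 0, 0],
  [0, 0, 0, 0, 0, 0, 8, 0, 0, 0, 0, 0, 0, 0, 0, 0, 0, 0, 0, 0, 0, 0, 0, 0],
  [0, 0, 0, 0, 0, 0, 0, 0, 0, 0, 0, 0, 0, 0, 0, 0, 0, 8, 0, 0, 0, 0, 0, 0],
  [0, 0, 0, 8, 0, 0, 0, 0, 0, 0, 0, 0, 0, 0, 0, 0, 0, 0, 0, 0, 0, 0, 0, 0],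
  [0, 0, 0, 0, 0, 0, 0, 0, 0, 0, 0, 0, 0, 0, 0, 0, 0, 0, 0, 0, 0, 0, 8, 0],
  [0, 0, 0, 0, 0, 0, 0, 0, 8, 0, 0, 0, 0, 0, 0, 0, 0, 0, 0, 0, 0, 0, 0, 0],
  [0, 0, 0, 0, 0, 0, 0, 0, 0, 0, 0, 0, 0, 0, 0, 0, 0, 0, 0, 8, 0, 0, 0, 0],
  [0, 0, 0, 0, 8, 0, 0, 0, 0, 0, 0, 0, 0, 0, 0, 0, 0, 0, 0, 0, 0, 0, 0, 0],
  [0, 0, 0, 0, 0, 0, 0, 0, 0, 0, 0, 8, 0, 0, 0, 0, 0, 0, 0, 0, 0, 0, 0, 0],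
  [0, 0, 0, 0, 0, 8, 0, 0, 0, 0, 0, 0, 0, 0, 0, 0, 0, 0, 0, 0, 0, 0, 0, 0],
  [0, 0, 0, 0, 0, 0, 0, 0, 0, 0, 0, 0, 0, 0, 0, 8, 0, 0, 0, 0, 0, 0, 0, 0],
  [0, 0, 0, 0, 0, 0, 0, 8, 0, 0, 0, 0, 0, 0, 0, 0, 0, 0, 0, 0, 0, 0, 0, 0],
  [0, 0, 0, 0, 0, 0, 0, 0, 0, 8, 0, 0, 0, 0, 0, 0, 0, 0, 0, 0, 0, 0, 0, 0],
  [0, 0, 0, 0, 0, 0, 0, 0, 0, 0, 0, 0, 0, 8, 0, 0, 0, 0, 0, 0, 0, 0, 0, 0],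
  [0, 0, 8, 0, 0, 0, 0, 0, 0, 0, 0, 0, 0, 0, 0, 0, 0, 0, 0, 0, 0, 0, 0, 0],
  [0, 8, 0, 0, 0, 0, 0, 0, 0, 0, 0, 0, 0, 0, 0, 0, 0, 0, 0, 0, 0, 0, 0, 0]]

theorem ok29 : Ok R29 (tr R29) := Cfsg.Agent.CoOneType.CoFast.ok_of_okZ (by decide +kernel)

/-- matrix -/
def R30 : List (List ℤ) := [
  [0, 0, 0, 0, 0, 0, 0, 0, 0, 0, 0, 0, 0, -4, 0, 0, -4, 0, 0, -4, 0, 0, 0, -4],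
  [0, -4, 0, 0, 0, 0, 0, -4, -4, 0, 0, -4, 0, 0, 0, 0, 0, 0, 0, 0, 0, 0, 0, 0],
  [0, 0, 0, 0, -4, 0, 0, 0, 0, 0, 0, 0, -4, 0, 0, 0, 0, 4, 0, 0, 4, 0, 0, 0],
  [0, 0, 0, 0, 0, 0, 0, 0, 0, 0, 0, 0, 0, -4, 0, 0, -4, 0, 0, 4, 0, 0, 0, 4],
  [0, 0, 4, 0, 0, 0, 4, 0, 0, 0, -4, 0, 0, 0, 0, -4, 0, 0, 0, 0, 0, 0, 0, 0],
  [0, 0, 0, 0, 0, -4, 0, 0, 0, 4, 0, 0, 0, 0, 0, 0, 0, 0, 4, 0, 0, 0, -4, 0],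
  [0, 0, 0, 0, -4, 0, 0, 0, 0, 0, 0, 0, -4, 0, 0, 0, 0, -4, 0, 0, -4, 0, 0, 0],
  [0, 4, 0, 0, 0, 0, 0, -4, 4, 0, 0, -4, 0, 0, 0, 0, 0, 0, 0, 0, 0, 0, 0, 0],
  [0, 4, 0, 0, 0, 0, 0, -4, -4, 0, 0, 4, 0, 0, 0, 0, 0, 0, 0, 0, 0, 0, 0, 0],
  [0, 0, 0, 0, 0, -4, 0, 0, 0, -4, 0, 0, 0, 0, 0, 0, 0, 0, -4, 0, 0, 0, -4, 0],
  [0, 0, 0, 0, 4, 0, 0, 0, 0, 0, 0, 0, -4, 0, 0, 0, 0, -4, 0, 0, 4, 0, 0, 0],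
  [0, 4, 0, 0, 0, 0, 0, 4, -4, 0, 0, -4, 0, 0, 0, 0, 0, 0, 0, 0, 0, 0, 0, 0],
  [0, 0, -4, 0, 0, 0, 4, 0, 0, 0, 4, 0, 0, 0, 0, -4, 0, 0, 0, 0, 0, 0, 0, 0],
  [4, 0, 0, 4, 0, 0, 0, 0, 0, 0, 0, 0, 0, 0, -4, 0, 0, 0, 0, 0, 0, -4, 0, 0],
  [0, 0, 0, 0, 0, 0, 0, 0, 0, 0, 0, 0, 0, 4, 0, 0, -4, 0, 0, -4, 0, 0, 0, 4],
  [0, 0, 0, 0, -4, 0, 0, 0, 0, 0, 0, 0, 4, 0, 0, 0, 0, -4, 0, 0, 4, 0, 0, 0],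
  [4, 0, 0, -4, 0, 0, 0, 0, 0, 0, 0, 0, 0, 0, 4, 0, 0, 0, 0, 0, 0, -4, 0, 0],
  [0, 0, -4, 0, 0, 0, 4, 0, 0, 0, -4, 0, 0, 0, 0, 4, 0, 0, 0, 0, 0, 0, 0, 0],
  [0, 0, 0, 0, 0, -4, 0, 0, 0, 4, 0, 0, 0, 0, 0, 0, 0, 0, -4, 0, 0, 0, 4, 0],
  [4, 0, 0, -4, 0, 0, 0, 0, 0, 0, 0, 0, 0, 0, -4, 0, 0, 0, 0, 0, 0, 4, 0, 0],
  [0, 0, -4, 0, 0, 0, -4, 0, 0, 0, -4, 0, 0, 0, 0, -4, 0, 0, 0, 0, 0, 0, 0, 0],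
  [0, 0, 0, 0, 0, 0, 0, 0, 0, 0, 0, 0, 0, -4, 0, 0, 4, 0, 0, -4, 0, 0, 0, 4],
  [0, 0, 0, 0, 0, 4, 0, 0, 0, 4, 0, 0, 0, 0, 0, 0, 0, 0, -4, 0, 0, 0, -4, 0],
  [-4, 0, 0, -4, 0, 0, 0, 0, 0, 0, 0, 0, 0, 0, -4, 0, 0, 0, 0, 0, 0, -4, 0, 0]]

theorem ok30 : Ok R30 (tr R30) := Cfsg.Agent.CoOneType.CoFast.ok_of_okZ (by decide +kernel)

end Cfsg.Agent.LThreeCo1.Mats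
end
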