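import Cfsg.Agent.LThreeCo1.Ev
set_option linter.all false

-- part: LThreeCo1/MatD
section
/-!
# Explicit elements of `Co0` (helper53; generated)
-/

set_option autoImplicit false
set_option maxRecDepth 20000

namespace Cfsg.Agent.LThreeCo1.Mats

open Cfsg.Agent.LThreeCo1.Ev Cfsg.Agent.SporadicStructure.Co0Matrix Cfsg.Agent.CoOneType.CoEval

/-- matrix -/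
def R12 : List (List ℤ) := [
  [0, -2, 0, 0, -2, 0, 0, 0, -4, 0, 0, 2, 0, -2, -2, 4, -2, 0, 0, 0, 2, -2, 0, 0],
  [-2, 0, -2, 2, 0, -2, 2, -2, 2, 2, -2, 0, 2, 0, 0, 2, 0, 2, -2, 2, 0, 0, -2, -2],
  [0, -2, 0, 0, -2, 0, 0, 0, 0, 0, 0, 2, 0, 2, -2, 0, 2, 0, 4, 4, -2, 2, 0, 0],
  [-2, 0, 2, -2, 0, -2, -2, 2, 2, -2, 2, 0, 2, 0, 0, 2, 0, -2, -2, 2, 0, 0, -2, 2],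
  [0, -2, 0, 0, 2, -4, 0, 0, 0, 0, 0, 2, -4, 2, 2, 0, -2, 0, 0, 0, -2, -2, 0, 0],
  [0, -2, 0, 0, 2, 0, 0, -4, 0, -4, 0, -2, 0, 2, -2, 0, -2, 0, 0, 0, 2, 2, 0, 0],
  [2, 0, 2, 2, 0, -2, -2, -2, -2, 2, -2, 0, 2, 0, 0, -2, 0, -2, -2, 2, 0, 0, 2, 2],
  [-4, 2, 0, 0, -2, 0, 0, 0, 0, 0, 0, -2, 0, 2, -2, 0, -2, 0, 0, 0, -2, -2, 4, 0],
  [0, 2, 0, 4, 2, 0, 0, 0, 0, 0, 4, 2, 0, -2, -2, 0, -2, 0, 0, 0, -2, 2, 0, 0],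
  [0, -2, 0, 0, -2, 0, 4, 0, 0, 0, 0, -2, 0, -2, 2, 0, -2, -4, 0, 0, -2, 2, 0, 0],
  [0, 2, -4, 0, -2, 0, 0, 0, 0, 0, 0, 2, 0, 2, 2, 0, -2, 0, 0, 0, 2, 2, 0, 4],
  [-2, 0, 2, -2, 0, 2, 2, -2, -2, 2, 2, 0, -2, 0, 0, -2, 0, 2, -2, 2, 0, 0, -2, 2],
  [0, 2, 4, 0, -2, 0, 0, 0, 0, 0, 0, 2, 0, 2, 2, 0, -2, 0, 0, 0, 2, 2, 0, -4],
  [2, 0, 2, 2, 0, 2, 2, 2, 2, -2, -2, 0, -2, 0, 0, 2, 0, 2, -2, 2, 0, 0, 2, 2],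
  [0, -2, 0, 0, 2, 0, 0, 4, 0, 4, 0, -2, 0, 2, -2, 0, -2, 0, 0, 0, 2, 2, 0, 0],
  [2, 0, -2, -2, 0, -2, 2, 2, -2, -2, 2, 0, 2, 0, 0, -2, 0, 2, -2, 2, 0, 0, 2, -2],
  [0, -2, 0, 0, -2, 0, -4, 0, 0, 0, 0, -2, 0, -2, 2, 0, -2, 4, 0, 0, -2, 2, 0, 0],
  [4, 2, 0, 0, -2, 0, 0, 0, 0, 0, 0, -2, 0, 2, -2, 0, -2, 0, 0, 0, -2, -2, -4, 0],
  [0, -2, 0, 0, -2, 0, 0, 0, 0, 0, 0, 2, 0, 2, -2, 0, 2, 0, -4, -4, -2, 2, 0, 0],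
  [-2, 0, -2, 2, 0, 2, -2, 2, -2, -2, -2, 0, -2, 0, 0, -2, 0, -2, -2, 2, 0, 0, -2, -2],
  [0, -2, 0, 0, -2, 0, 0, 0, 4, 0, 0, 2, 0, -2, -2, -4, -2, 0, 0, 0, 2, -2, 0, 0],
  [2, 0, -2, -2, 0, 2, -2, -2, 2, 2, 2, 0, -2, 0, 0, 2, 0, -2, -2, 2, 0, 0, 2, -2],
  [0, 2, 0, -4, 2, 0, 0, 0, 0, 0, -4, 2, 0, -2, -2, 0, -2, 0, 0, 0, -2, 2, 0, 0],
  [0, -2, 0, 0, 2, 4, 0, 0, 0, 0, 0, 2, 4, 2, 2, 0, -2, 0, 0, 0, -2, -2, 0, 0]]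

theorem ok12 : Ok R12 (tr R12) := Cfsg.Agent.CoOneType.CoFast.ok_of_okZ (by decide +kernel)

/-- matrix -/
def R13 : List (List ℤ) := [
  [-2, -2, 2, 0, -2, -4, 0, 0, 0, -4, 0, 0, 0, 2, 0, 0, 2, 0, 0, 0, 0, 0, -2, 2],
  [2, -2, -2, -4, -2, 0, 0, 0, 0, 0, 4, 0, 0, -2, 0, 0, -2, 0, 0, 0, 0, 0, -2, 2],
  [-2, 2, 2, 0, 2, 0, 0, 4, 0, 0, 0, 0, 4, -2, 0, 0, -2, 0, 0, 0, 0, 0, -2, 2],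
  [-2, -2, -2, 0, 2, 0, 0, 0, 0, 0, 0, 0, 0, -2, 0, 4, 2, -4, 0, 0, 0, 0, -2, -2],
  [-2, 2, -2, 0, -2, 0, 0, 0, 0, 0, 0, 0, 0, -2, 4, 0, 2, 0, 0, 0, 4, 0, 2, 2],
  [0, 0, 0, 2, 0, -2, -2, -2, -2, 2, 2, -2, 2, 0, -2, -2, 0, -2, 2, 2, 2, 2, 0, 0],
  [0, 0, 0, -2, 0, 2, -2, -2, -2, -2, -2, -2, 2, 0, 2, 2, 0, 2, 2, 2, -2, 2, 0, 0],
  [0, 0, 0, 2, 0, -2, 2, -2, 2, 2, 2, 2, 2, 0, 2, 2, 0, 2, 2, 2, -2, -2, 0, 0],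
  [0, 0, 0, -2, 0, -2, -2, 2, -2, 2, -2, 2, -2, 0, -2, 2, 0, 2, 2, 2, 2, -2, 0, 0],
  [-2, -2, 2, 0, -2, 4, 0, 0, 0, 4, 0, 0, 0, 2, 0, 0, 2, 0, 0, 0, 0, 0, -2, 2],
  [0, 0, 0, -2, 0, 2, 2, -2, 2, -2, -2, 2, 2, 0, -2, -2, 0, -2, 2, 2, 2, -2, 0, 0],
  [2, 2, 2, 0, -2, 0, 0, 0, 0, 0, 0, -4, 0, -2, 0, 0, 2, 0, 0, 0, 0, -4, -2, -2],
  [2, -2, -2, 0, -2, 0, 0, 4, 0, 0, 0, 0, 4, 2, 0, 0, 2, 0, 0, 0, 0, 0, 2, -2],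
  [-2, 2, -2, 0, -2, 0, 0, 0, 0, 0, 0, 0, 0, -2, -4, 0, 2, 0, 0, 0, -4, 0, 2, 2],
  [2, -2, -2, 4, -2, 0, 0, 0, 0, 0, -4, 0, 0, -2, 0, 0, -2, 0, 0, 0, 0, 0, -2, 2],
  [-2, -2, -2, 0, 2, 0, 0, 0, 0, 0, 0, 0, 0, -2, 0, -4, 2, 4, 0, 0, 0, 0, -2, -2],
  [2, 2, -2, 0, 2, 0, 0, 0, 0, 0, 0, 0, 0, 2, 0, 0, 2, 0, 4, -4, 0, 0, -2, 2],
  [2, -2, 2, 0, 2, 0, 4, 0, -4, 0, 0, 0, 0, -2, 0, 0, 2, 0, 0, 0, 0, 0, 2, 2],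
  [-2, 2, -2, 0, -2, 0, 4, 0, -4, 0, 0, 0, 0, 2, 0, 0, -2, 0, 0, 0, 0, 0, -2, -2],
  [0, 0, 0, 2, 0, 2, -2, -2, -2, -2, 2, 2, 2, 0, -2, 2, 0, 2, -2, -2, 2, -2, 0, 0],
  [-2, -2, -2, 0, 2, 0, 0, 0, 0, 0, 0, -4, 0, 2, 0, 0, -2, 0, 0, 0, 0, -4, 2, 2],
  [-2, -2, 2, 0, -2, 0, 0, 0, 0, 0, 0, 0, 0, -2, 0, 0, -2, 0, 4, -4, 0, 0, 2, -2],
  [0, 0, 0, 2, 0, 2, -2, 2, -2, -2, 2, 2, -2, 0, 2, -2, 0, -2, 2, 2, -2, -2, 0, 0],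
  [0, 0, 0, -2, 0, -2, -2, -2, -2, 2, -2, 2, 2, 0, 2, -2, 0, -2, -2, -2, -2, -2, 0, 0]]

theorem ok13 : Ok R13 (tr R13) := Cfsg.Agent.CoOneType.CoFast.ok_of_okZ (by decide +kernel)

/-- matrix -/
def R14 : List (List ℤ) := [
  [0, 0, 2, 0, -2, -2, 0, 0, 2, 0, 0, 0, 4, -4, -2, 0, 0, 0, 2, 0, 0, 0, -2, 2],
  [-2, -2, 0, -2, 0, 0, 2, -2, 0, -2, 2, -2, 2, 2, 0, -2, -2, -2, 0, -2, 2, 2, 0, 0],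
  [-2, -2, 0, -2, 0, 0, 2, -2, 0, 2, -2, 2, -2, -2, 0, -2, 2, -2, 0, 2, 2, -2, 0, 0],
  [0, 0, -2, 0, 2, 2, 0, 0, -2, 0, 0, 0, 4, -4, 2, 0, 0, 0, -2, 0, 0, 0, 2, -2],
  [2, -2, 0, 2, 0, 0, 2, -2, 0, 2, 2, 2, 2, 2, 0, 2, 2, -2, 0, -2, -2, -2, 0, 0],
  [0, 0, 2, 0, 2, -2, 0, 0, -2, 0, 0, -4, 0, 0, -2, 0, 4, 0, -2, 0, 0, 0, 2, 2],
  [0, 0, -2, 0, -2, -2, 0, 0, 2, 0, 0, 0, 0, 0, -2, -4, 0, 0, -2, 0, -4, 0, 2, -2],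
  [0, 0, 2, 0, -2, -2, 0, 0, -2, 0, -4, 0, 0, 0, 2, 0, 0, 0, -2, -4, 0, 0, -2, -2],
  [0, -4, 2, 0, -2, 2, 0, 0, -2, 0, 0, 0, 0, 0, -2, 0, 0, 4, 2, 0, 0, 0, 2, -2],
  [0, 0, -2, 0, 2, -2, 4, 4, -2, 0, 0, 0, 0, 0, -2, 0, 0, 0, 2, 0, 0, 0, -2, -2],
  [0, 0, -2, 0, 2, 2, 0, 0, 2, 0, -4, 0, 0, 0, -2, 0, 0, 0, 2, -4, 0, 0, 2, 2],
  [4, 0, 2, -4, 2, 2, 0, 0, 2, 0, 0, 0, 0, 0, -2, 0, 0, 0, -2, 0, 0, 0, -2, -2],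
  [2, -2, 0, 2, 0, 0, 2, -2, 0, -2, -2, -2, -2, -2, 0, 2, -2, -2, 0, 2, -2, 2, 0, 0],
  [2, -2, 0, 2, 0, 0, -2, 2, 0, 2, 2, -2, -2, -2, 0, -2, -2, -2, 0, -2, 2, -2, 0, 0],
  [2, 2, 0, 2, 0, 0, 2, -2, 0, 2, -2, -2, 2, 2, 0, -2, -2, 2, 0, 2, 2, -2, 0, 0],
  [0, 0, -2, 0, 2, -2, -4, -4, -2, 0, 0, 0, 0, 0, -2, 0, 0, 0, 2, 0, 0, 0, -2, -2],
  [4, 0, -2, -4, -2, -2, 0, 0, -2, 0, 0, 0, 0, 0, 2, 0, 0, 0, 2, 0, 0, 0, 2, 2],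
  [-2, -2, 0, -2, 0, 0, -2, 2, 0, 2, -2, -2, 2, 2, 0, 2, -2, -2, 0, 2, -2, -2, 0, 0],
  [-2, 2, 0, -2, 0, 0, 2, -2, 0, 2, 2, -2, -2, -2, 0, 2, -2, 2, 0, -2, -2, -2, 0, 0],
  [0, 0, 2, 0, 2, 2, 0, 0, -2, 0, 0, 0, 0, 0, 2, -4, 0, 0, 2, 0, -4, 0, -2, 2],
  [0, 0, -2, 0, -2, 2, 0, 0, -2, -4, 0, 0, 0, 0, -2, 0, 0, 0, -2, 0, 0, -4, -2, 2],
  [0, 0, -2, 0, -2, 2, 0, 0, -2, 4, 0, 0, 0, 0, -2, 0, 0, 0, -2, 0, 0, 4, -2, 2],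
  [0, 4, 2, 0, -2, 2, 0, 0, -2, 0, 0, 0, 0, 0, -2, 0, 0, -4, 2, 0, 0, 0, 2, -2],
  [0, 0, 2, 0, 2, -2, 0, 0, -2, 0, 0, 4, 0, 0, -2, 0, -4, 0, -2, 0, 0, 0, 2, 2]]

theorem ok14 : Ok R14 (tr R14) := Cfsg.Agent.CoOneType.CoFast.ok_of_okZ (by decide +kernel)

/-- matrix -/
def R15 : List (List ℤ) := [
  [-4, 0, 0, 0, 0, 2, -2, -4, -2, 0, 0, 0, 0, 0, 0, 0, 2, -2, 2, 0, 0, 2, -2, 0],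
  [4, 0, 0, 0, 0, 2, -2, 4, -2, 0, 0, 0, 0, 0, 0, 0, 2, -2, 2, 0, 0, 2, -2, 0],
  [0, 0, 0, 0, 0, -2, -2, 0, 2, -4, 0, 0, 0, 0, 0, 0, -2, -2, 2, 4, 0, -2, -2, 0],
  [-2, 2, 2, -2, 2, 0, 0, 2, 0, 2, 2, -2, 2, -2, 2, 2, 0, 0, 0, 2, 2, 0, 0, 2],
  [0, 0, 0, 0, 0, -2, 2, 0, -2, 0, 0, 4, 0, 0, 0, 4, 2, -2, 2, 0, 0, -2, 2, 0],
  [0, 0, 0, 0, 0, -2, 2, 0, -2, 0, 0, -4, 0, 0, 0, -4, 2, -2, 2, 0, 0, -2, 2, 0],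
  [-2, -2, -2, 2, 2, 0, 0, 2, 0, -2, 2, -2, -2, 2, 2, 2, 0, 0, 0, -2, 2, 0, 0, -2],
  [2, -2, 2, -2, 2, 0, 0, -2, 0, 2, 2, -2, -2, 2, -2, 2, 0, 0, 0, 2, -2, 0, 0, -2],
  [2, 2, 2, -2, -2, 0, 0, -2, 0, -2, -2, -2, 2, 2, 2, 2, 0, 0, 0, -2, 2, 0, 0, -2],
  [0, -4, 0, 0, 0, 2, 2, 0, 2, 0, 0, 0, 4, 0, 0, 0, -2, -2, 2, 0, 0, 2, 2, 0],
  [0, 0, 0, 0, -4, -2, -2, 0, -2, 0, 4, 0, 0, 0, 0, 0, -2, -2, -2, 0, 0, 2, 2, 0],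
  [0, 0, 0, 0, 0, -2, 2, 0, -2, 0, 0, 0, 0, -4, 0, 0, -2, 2, 2, 0, 0, 2, -2, -4],
  [0, 0, -4, -4, 0, 2, -2, 0, -2, 0, 0, 0, 0, 0, 0, 0, -2, 2, 2, 0, 0, -2, 2, 0],
  [0, 0, 0, 0, -4, 2, 2, 0, 2, 0, 4, 0, 0, 0, 0, 0, 2, 2, 2, 0, 0, -2, -2, 0],
  [0, 0, 0, 0, 0, -2, 2, 0, -2, 0, 0, 0, 0, 4, 0, 0, -2, 2, 2, 0, 0, 2, -2, 4],
  [-2, -2, 2, -2, -2, 0, 0, 2, 0, 2, -2, 2, -2, 2, 2, -2, 0, 0, 0, 2, 2, 0, 0, -2],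
  [-2, 2, -2, 2, -2, 0, 0, 2, 0, 2, -2, -2, 2, 2, -2, 2, 0, 0, 0, 2, -2, 0, 0, -2],
  [0, 0, 0, 0, 0, -2, -2, 0, 2, 0, 0, 0, 0, 0, 4, 0, 2, 2, 2, 0, -4, 2, 2, 0],
  [0, -4, 0, 0, 0, -2, -2, 0, -2, 0, 0, 0, 4, 0, 0, 0, 2, 2, -2, 0, 0, -2, -2, 0],
  [0, 0, 0, 0, 0, 2, 2, 0, -2, -4, 0, 0, 0, 0, 0, 0, 2, 2, -2, 4, 0, 2, 2, 0],
  [0, 0, 0, 0, 0, 2, 2, 0, -2, 0, 0, 0, 0, 0, 4, 0, -2, -2, -2, 0, -4, -2, -2, 0],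
  [-2, -2, 2, -2, -2, 0, 0, 2, 0, -2, -2, -2, -2, -2, -2, 2, 0, 0, 0, -2, -2, 0, 0, 2],
  [0, 0, 4, 4, 0, 2, -2, 0, -2, 0, 0, 0, 0, 0, 0, 0, -2, 2, 2, 0, 0, -2, 2, 0],
  [-2, 2, 2, -2, 2, 0, 0, 2, 0, -2, 2, 2, 2, 2, -2, -2, 0, 0, 0, -2, -2, 0, 0, -2]]

theorem ok15 : Ok R15 (tr R15) := Cfsg.Agent.CoOneType.CoFast.ok_of_okZ (by decide +kernel)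

end Cfsg.Agent.LThreeCo1.Mats
end

-- part: LThreeCo1/MatE
section
/-!
# Explicit elements of `Co0` (helper53; generated)
-/

set_option autoImplicit false
set_option maxRecDepth 20000

namespace Cfsg.Agent.LThreeCo1.Mats

open Cfsg.Agent.LThreeCo1.Ev Cfsg.Agent.SporadicStructure.Co0Matrix Cfsg.Agent.CoOneType.CoEval

/-- matrix -/
def R16 : List (List ℤ) := [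
  [-2, 2, -2, 2, 2, 2, -2, 2, 0, 0, 0, 2, 0, 0, 2, 2, 4, 0, 0, 2, 0, 0, 0, 0],
  [2, 2, 2, -2, -2, 2, -2, 2, 0, 0, 0, -2, 0, 0, -2, 2, 0, 0, -4, 2, 0, 0, 0, 0],
  [2, 2, -2, -2, 2, 2, 2, -2, 0, 0, -4, -2, 0, 0, 2, 2, 0, 0, 0, -2, 0, 0, 0, 0],
  [2, -2, 2, 2, 2, -2, -2, -2, 0, 0, 0, -2, 0, 0, 2, 2, 0, 0, 0, 2, -4, 0, 0, 0],
  [0, 0, 0, 0, 0, 0, 0, 0, 2, 2, 2, 0, 2, -2, 0, 0, 2, -2, -2, -4, -2, -2, -2, -2],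
  [0, 0, 0, 0, 0, 4, 0, 0, 2, -2, 2, 0, 2, 2, 0, 0, -2, -2, 2, 0, -2, -2, 2, 2],
  [0, 0, 0, -4, 0, 0, 0, 0, 2, 2, 2, 0, -2, 2, 0, 0, 2, 2, 2, 0, -2, 2, 2, -2],
  [-2, -2, 2, 2, -2, 2, 2, 2, 0, 0, 0, -2, -4, 0, 2, 2, 0, 0, 0, -2, 0, 0, 0, 0],
  [0, 0, 0, 0, -4, 0, 0, 0, -2, -2, -2, 0, 2, -2, 0, 0, 2, -2, 2, 0, -2, 2, 2, -2],
  [0, 0, -4, 0, 0, 0, 0, 0, -2, 2, 2, 0, -2, -2, 0, 0, -2, -2, -2, 0, -2, 2, 2, 2],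
  [2, 2, 2, 2, 2, -2, 2, 2, 0, 0, 0, 2, 0, 0, -2, 2, 0, 0, 0, -2, 0, 0, 4, 0],
  [0, 0, 0, 0, 0, 0, 0, 0, -2, 2, 2, 0, 2, 2, 0, 4, -2, -2, 2, 0, 2, 2, -2, -2],
  [0, 0, 0, 0, 0, 0, -4, 0, 2, 2, -2, 0, -2, -2, 0, 0, -2, -2, 2, 0, 2, -2, 2, -2],
  [2, -2, -2, 2, 2, 2, 2, 2, 0, 0, 0, -2, 0, 0, -2, -2, 0, 0, 0, 2, 0, 0, 0, -4],
  [0, 4, 0, 0, 0, 0, 0, 0, -2, -2, 2, 0, -2, -2, 0, 0, -2, 2, 2, 0, -2, -2, -2, -2],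
  [0, 0, 0, 0, 0, 0, 0, 0, -2, 2, -2, 0, -2, 2, -4, 0, 2, -2, 2, 0, -2, -2, -2, 2],
  [2, -2, -2, 2, -2, 2, -2, -2, 0, 0, 0, 2, 0, 0, -2, 2, 0, 4, 0, -2, 0, 0, 0, 0],
  [2, 2, 2, 2, -2, 2, 2, -2, 0, 4, 0, 2, 0, 0, 2, -2, 0, 0, 0, 2, 0, 0, 0, 0],
  [0, 0, 0, 0, 0, 0, 0, 0, -2, 2, 2, -4, 2, -2, 0, 0, 2, 2, 2, 0, 2, -2, 2, 2],
  [2, -2, 2, -2, 2, 2, -2, 2, -4, 0, 0, 2, 0, 0, 2, -2, 0, 0, 0, -2, 0, 0, 0, 0],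
  [-2, -2, 2, -2, 2, 2, 2, -2, 0, 0, 0, 2, 0, -4, -2, 2, 0, 0, 0, 2, 0, 0, 0, 0],
  [4, 0, 0, 0, 0, 0, 0, 0, 2, -2, 2, 0, -2, -2, 0, 0, 2, -2, 2, 0, 2, 2, -2, 2],
  [0, 0, 0, 0, 0, 0, 0, -4, -2, -2, 2, 0, -2, 2, 0, 0, 2, -2, -2, 0, 2, -2, 2, -2],
  [2, -2, -2, -2, -2, -2, 2, 2, 0, 0, 0, 2, 0, 0, 2, 2, 0, 0, 0, 2, 0, -4, 0, 0]]

theorem ok16 : Ok R16 (tr R16) := Cfsg.Agent.CoOneType.CoFast.ok_of_okZ (by decide +kernel)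

/-- matrix -/
def R17 : List (List ℤ) := [
  [2, 0, 2, 0, 0, 2, 0, 0, 0, 0, 2, 0, 2, 0, -2, 0, 0, 0, 2, -4, -2, 4, 0, 0],
  [2, 0, -2, 0, 0, 2, -4, 0, 0, 0, 2, 0, -2, 4, 2, 0, 0, 0, 2, 0, 2, 0, 0, 0],
  [0, 2, 0, -2, -2, 0, -2, 2, 2, 2, 0, -2, 0, -2, 0, 2, 2, -2, 0, 2, 0, 2, -2, -2],
  [-2, 0, 2, 0, 0, 2, 0, 4, 0, 0, -2, 0, -2, 0, 2, 0, 0, 0, 2, 0, -2, 0, 4, 0],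
  [0, -2, 0, 2, -2, 0, -2, 2, -2, -2, 0, 2, 0, -2, 0, -2, 2, 2, 0, 2, 0, 2, -2, 2],
  [0, 2, 0, 2, 2, 0, 2, 2, 2, -2, 0, 2, 0, 2, 0, 2, -2, -2, 0, 2, 0, 2, -2, 2],
  [-2, 0, -2, 0, 4, 2, 0, 0, 0, 0, -2, 0, 2, 0, -2, 0, 4, 0, 2, 0, 2, 0, 0, 0],
  [2, 0, 2, 0, 4, -2, 0, 0, 0, 0, 2, 0, -2, 0, 2, 0, 4, 0, -2, 0, -2, 0, 0, 0],
  [2, 0, 2, 0, 0, -2, 0, 0, 4, 0, -2, 0, -2, 0, -2, 0, 0, 4, 2, 0, 2, 0, 0, 0],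
  [0, 2, 0, 2, 2, 0, -2, 2, -2, 2, 0, 2, 0, -2, 0, 2, -2, 2, 0, -2, 0, -2, -2, -2],
  [-2, 0, 2, 0, 0, 2, 0, 0, 0, 4, 2, 0, -2, 0, -2, 0, 0, 0, -2, 0, 2, 0, 0, 4],
  [0, -2, 0, 2, 2, 0, -2, -2, 2, 2, 0, 2, 0, -2, 0, -2, -2, -2, 0, 2, 0, 2, 2, -2],
  [-2, 0, 2, 0, 0, 2, 0, 0, 0, -4, 2, 0, -2, 0, -2, 0, 0, 0, -2, 0, 2, 0, 0, -4],
  [-2, 0, -2, -4, 0, -2, 0, 0, 0, 0, 2, 4, -2, 0, -2, 0, 0, 0, 2, 0, -2, 0, 0, 0],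
  [2, 0, 2, 0, 0, -2, 0, 0, -4, 0, -2, 0, -2, 0, -2, 0, 0, -4, 2, 0, 2, 0, 0, 0],
  [-2, 0, -2, 0, 0, -2, 0, 0, 0, 0, -2, 0, -2, 0, 2, 0, 0, 0, -2, -4, 2, 4, 0, 0],
  [0, -2, 0, -2, 2, 0, -2, 2, 2, -2, 0, -2, 0, -2, 0, -2, -2, -2, 0, -2, 0, -2, -2, 2],
  [-2, 0, 2, 0, 0, -2, -4, 0, 0, 0, -2, 0, 2, 4, -2, 0, 0, 0, -2, 0, -2, 0, 0, 0],
  [-2, 4, 2, 0, 0, -2, 0, 0, 0, 0, 2, 0, 2, 0, 2, -4, 0, 0, 2, 0, 2, 0, 0, 0],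
  [-2, 0, -2, 4, 0, -2, 0, 0, 0, 0, 2, -4, -2, 0, -2, 0, 0, 0, 2, 0, -2, 0, 0, 0],
  [2, 0, -2, 0, 0, -2, 0, 4, 0, 0, 2, 0, 2, 0, -2, 0, 0, 0, -2, 0, 2, 0, 4, 0],
  [0, 2, 0, -2, 2, 0, -2, -2, -2, -2, 0, -2, 0, -2, 0, 2, -2, 2, 0, 2, 0, 2, 2, 2],
  [0, -2, 0, -2, 2, 0, 2, 2, -2, 2, 0, -2, 0, 2, 0, -2, -2, 2, 0, 2, 0, 2, -2, -2],
  [-2, -4, 2, 0, 0, -2, 0, 0, 0, 0, 2, 0, 2, 0, 2, 4, 0, 0, 2, 0, 2, 0, 0, 0]]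

theorem ok17 : Ok R17 (tr R17) := Cfsg.Agent.CoOneType.CoFast.ok_of_okZ (by decide +kernel)

/-- matrix -/
def R18 : List (List ℤ) := [
  [0, 0, 2, 0, 0, 0, 2, 2, -2, 0, 0, 4, 0, 0, 0, 0, -2, 2, 0, -2, -2, 0, 0, 4],
  [0, 0, 2, 0, 4, 0, -2, -2, -2, 0, 0, 0, 0, 0, 0, -4, -2, -2, 0, 2, -2, 0, 0, 0],
  [2, 2, 0, 2, -2, -2, 0, 0, 0, -2, -2, 2, 2, 2, -2, -2, 0, 0, 2, 0, 0, -2, 2, -2],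
  [0, 0, -2, 0, 0, 0, -2, -2, -2, 0, 0, 0, 0, 0, 0, 0, 2, 2, -4, -2, -2, 0, 4, 0],
  [-4, 0, -2, 0, 0, 0, 2, 2, -2, -4, 0, 0, 0, 0, 0, 0, 2, -2, 0, 2, -2, 0, 0, 0],
  [0, 0, 2, 0, 0, 0, 2, 2, -2, 0, 0, -4, 0, 0, 0, 0, -2, 2, 0, -2, -2, 0, 0, -4],
  [4, 0, -2, 0, 0, 0, 2, 2, -2, 4, 0, 0, 0, 0, 0, 0, 2, -2, 0, 2, -2, 0, 0, 0],
  [2, -2, 0, 2, 2, -2, 0, 0, 0, -2, 2, -2, -2, -2, -2, 2, 0, 0, 2, 0, 0, -2, 2, 2],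
  [0, 0, 2, 0, 0, -4, -2, 2, -2, 0, 0, 0, 0, 0, 0, 0, 2, 2, 0, 2, 2, 4, 0, 0],
  [0, 4, -2, 0, 0, 0, -2, 2, -2, 0, 0, 0, 0, -4, 0, 0, -2, -2, 0, -2, 2, 0, 0, 0],
  [2, -2, 0, 2, 2, 2, 0, 0, 0, -2, -2, 2, 2, -2, -2, 2, 0, 0, -2, 0, 0, 2, -2, -2],
  [2, -2, 0, -2, -2, 2, 0, 0, 0, -2, 2, 2, -2, -2, 2, -2, 0, 0, 2, 0, 0, 2, 2, -2],
  [-2, 2, 0, 2, 2, 2, 0, 0, 0, 2, 2, 2, -2, 2, -2, 2, 0, 0, 2, 0, 0, 2, 2, -2],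
  [0, 0, -2, 0, 0, -4, 2, -2, 2, 0, 0, 0, 0, 0, 0, 0, -2, -2, 0, -2, -2, 4, 0, 0],
  [0, 0, -2, 4, 0, 0, -2, 2, 2, 0, 0, 0, 0, 0, 4, 0, -2, 2, 0, 2, -2, 0, 0, 0],
  [0, 0, 2, 0, 0, 0, -2, 2, 2, 0, 4, 0, 4, 0, 0, 0, 2, -2, 0, -2, -2, 0, 0, 0],
  [0, 0, -2, 0, 4, 0, 2, 2, 2, 0, 0, 0, 0, 0, 0, -4, 2, 2, 0, -2, 2, 0, 0, 0],
  [0, 0, 2, 0, 0, 0, -2, 2, 2, 0, -4, 0, -4, 0, 0, 0, 2, -2, 0, -2, -2, 0, 0, 0],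
  [0, 0, -2, -4, 0, 0, -2, 2, 2, 0, 0, 0, 0, 0, -4, 0, -2, 2, 0, 2, -2, 0, 0, 0],
  [2, 2, 0, 2, -2, 2, 0, 0, 0, -2, 2, -2, -2, 2, -2, -2, 0, 0, -2, 0, 0, 2, -2, 2],
  [-2, -2, 0, 2, -2, -2, 0, 0, 0, 2, 2, 2, -2, -2, -2, -2, 0, 0, -2, 0, 0, -2, -2, -2],
  [0, 0, 2, 0, 0, 0, 2, 2, 2, 0, 0, 0, 0, 0, 0, 0, -2, -2, -4, 2, 2, 0, 4, 0],
  [0, 4, 2, 0, 0, 0, 2, -2, 2, 0, 0, 0, 0, -4, 0, 0, 2, 2, 0, 2, -2, 0, 0, 0],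
  [2, 2, 0, -2, 2, -2, 0, 0, 0, -2, 2, 2, -2, 2, 2, 2, 0, 0, -2, 0, 0, -2, -2, -2]]

theorem ok18 : Ok R18 (tr R18) := Cfsg.Agent.CoOneType.CoFast.ok_of_okZ (by decide +kernel)

/-- matrix -/
def R19 : List (List ℤ) := [
  [-2, 0, 2, -4, 0, 0, 2, 0, 0, 2, 0, 4, 0, 2, -2, 0, 0, 0, -2, 0, 0, 0, 0, -2],
  [2, 0, 2, 0, 0, 0, -2, 0, 0, 2, 0, 0, 0, 2, -2, 0, 0, 4, 2, 0, 0, 4, 0, 2],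
  [0, -2, 0, 2, 2, -2, 0, 2, 2, 0, 2, 2, -2, 0, 0, 2, -2, 2, 0, 2, -2, -2, 2, 0],
  [0, 2, 0, 2, -2, 2, 0, 2, -2, 0, 2, 2, -2, 0, 0, 2, 2, 2, 0, -2, 2, -2, -2, 0],
  [-2, 0, 2, 0, 0, 0, -2, -4, 0, -2, 0, 0, 0, 2, 2, 4, 0, 0, 2, 0, 0, 0, 0, -2],
  [2, 0, 2, 0, 0, -4, -2, 0, 0, 2, 0, 0, 0, -2, 2, 0, 0, 0, -2, 0, 4, 0, 0, -2],
  [0, 2, 0, 2, 2, 2, 0, -2, 2, 0, -2, 2, 2, 0, 0, -2, -2, 2, 0, 2, 2, -2, -2, 0],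
  [2, 0, 2, 0, 0, 0, 2, 0, 0, -2, -4, 0, -4, 2, 2, 0, 0, 0, -2, 0, 0, 0, 0, 2],
  [0, 2, 0, 2, -2, -2, 0, 2, 2, 0, -2, 2, 2, 0, 0, 2, 2, -2, 0, 2, -2, 2, -2, 0],
  [2, 0, -2, -4, 0, 0, -2, 0, 0, -2, 0, 4, 0, -2, 2, 0, 0, 0, 2, 0, 0, 0, 0, 2],
  [-2, 0, -2, 0, 0, 0, -2, 0, -4, 2, 0, 0, 0, 2, 2, 0, 0, 0, -2, 4, 0, 0, 0, 2],
  [0, -2, 0, 2, -2, -2, 0, -2, -2, 0, -2, 2, 2, 0, 0, -2, 2, 2, 0, -2, -2, -2, 2, 0],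
  [2, 0, 2, 0, 0, 0, 2, 0, -4, -2, 0, 0, 0, -2, -2, 0, 0, 0, 2, 4, 0, 0, 0, -2],
  [-2, 0, 2, 0, 4, 0, -2, 0, 0, -2, 0, 0, 0, -2, -2, 0, 4, 0, -2, 0, 0, 0, 0, 2],
  [0, 2, 0, 2, 2, -2, 0, -2, -2, 0, 2, 2, -2, 0, 0, -2, -2, -2, 0, -2, -2, 2, -2, 0],
  [-2, 0, -2, 0, 0, -4, 2, 0, 0, -2, 0, 0, 0, 2, -2, 0, 0, 0, 2, 0, 4, 0, 0, 2],
  [-2, -4, 2, 0, 0, 0, 2, 0, 0, 2, 0, 0, 0, -2, 2, 0, 0, 0, 2, 0, 0, 0, -4, 2],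
  [2, -4, -2, 0, 0, 0, -2, 0, 0, -2, 0, 0, 0, 2, -2, 0, 0, 0, -2, 0, 0, 0, -4, -2],
  [2, 0, -2, 0, 4, 0, 2, 0, 0, 2, 0, 0, 0, 2, 2, 0, 4, 0, 2, 0, 0, 0, 0, -2],
  [0, -2, 0, 2, -2, 2, 0, -2, 2, 0, 2, 2, -2, 0, 0, -2, 2, -2, 0, 2, 2, 2, 2, 0],
  [-2, 0, -2, 0, 0, 0, -2, 0, 0, 2, -4, 0, -4, -2, -2, 0, 0, 0, 2, 0, 0, 0, 0, -2],
  [2, 0, -2, 0, 0, 0, 2, -4, 0, 2, 0, 0, 0, -2, -2, 4, 0, 0, -2, 0, 0, 0, 0, 2],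
  [-2, 0, -2, 0, 0, 0, 2, 0, 0, -2, 0, 0, 0, -2, 2, 0, 0, 4, -2, 0, 0, 4, 0, -2],
  [0, -2, 0, 2, 2, 2, 0, 2, -2, 0, -2, 2, 2, 0, 0, 2, -2, -2, 0, -2, 2, 2, 2, 0]]

theorem ok19 : Ok R19 (tr R19) := Cfsg.Agent.CoOneType.CoFast.ok_of_okZ (by decide +kernel)

end Cfsg.Agent.LThreeCo1.Mats
end
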