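import Cfsg.Agent.LThreeCo1.Ev
set_option linter.all false

/-!
# Explicit elements of `Co0` (helper53; generated)
-/

set_option autoImplicit false
set_option maxRecDepth 20000

namespace Cfsg.Agent.LThreeCo1.Mats

open Cfsg.Agent.LThreeCo1.Ev Cfsg.Agent.SporadicStructure.Co0Matrix Cfsg.Agent.CoOneType.CoEval

/-- matrix -/
def R24 : List (List ℤ) := [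
  [-2, -2, 4, 0, 2, 2, 0, 2, -2, 0, 0, 0, 0, 0, 0, -2, 0, 0, 4, 0, 0, 0, 0, 2],
  [2, -2, 0, 0, -2, 2, 0, 2, 2, 0, -4, 0, 0, 4, 0, 2, 0, 0, 0, 0, 0, 0, 0, 2],
  [-2, -2, 0, 0, -2, -2, 0, 2, 2, 0, 0, 0, 0, 0, -4, -2, 0, 0, 0, 0, 0, 0, 4, -2],
  [2, 2, 0, 0, 2, 2, 0, 2, 2, 0, 0, 4, -4, 0, 0, -2, 0, 0, 0, 0, 0, 0, 0, -2],
  [0, 0, 2, -2, 0, 0, 2, 0, 0, 2, -2, -2, -2, -2, -2, 0, -2, -2, -2, -2, -2, 2, -2, 0],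
  [-2, 2, 0, 0, 2, -2, 0, 2, 2, 0, 0, 0, 0, 0, 0, 2, 0, 4, 0, 0, -4, 0, 0, 2],
  [2, 2, 0, 0, -2, -2, 0, 2, -2, -4, 0, 0, 0, 0, 0, -2, 0, 0, 0, -4, 0, 0, 0, 2],
  [2, -2, 0, 0, -2, 2, 0, 2, 2, 0, 4, 0, 0, -4, 0, 2, 0, 0, 0, 0, 0, 0, 0, 2],
  [2, -2, 0, -4, 2, -2, -4, -2, 2, 0, 0, 0, 0, 0, 0, -2, 0, 0, 0, 0, 0, 0, 0, 2],
  [2, -2, 0, 0, -2, 2, 0, -2, -2, 0, 0, 0, 0, 0, 0, -2, 0, 4, 0, 0, -4, 0, 0, -2],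
  [-2, -2, 0, 0, 2, 2, 0, -2, 2, -4, 0, 0, 0, 0, 0, 2, 0, 0, 0, -4, 0, 0, 0, -2],
  [2, -2, 0, 4, 2, -2, 4, -2, 2, 0, 0, 0, 0, 0, 0, -2, 0, 0, 0, 0, 0, 0, 0, 2],
  [0, 0, 2, 2, 0, 0, -2, 0, 0, 2, 2, -2, -2, 2, -2, 0, 2, 2, -2, -2, 2, -2, -2, 0],
  [0, 0, 2, -2, 0, 0, 2, 0, 0, 2, 2, 2, 2, 2, 2, 0, -2, 2, -2, -2, 2, 2, 2, 0],
  [-2, -2, -4, 0, 2, 2, 0, 2, -2, 0, 0, 0, 0, 0, 0, -2, 0, 0, -4, 0, 0, 0, 0, 2],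
  [2, 2, 0, 0, 2, 2, 0, -2, -2, 0, 0, 0, 0, 0, -4, 2, 0, 0, 0, 0, 0, 0, 4, 2],
  [0, 0, -2, -2, 0, 0, 2, 0, 0, -2, 2, -2, -2, 2, -2, 0, -2, 2, 2, 2, 2, 2, -2, 0],
  [0, 0, -2, 2, 0, 0, -2, 0, 0, 2, 2, 2, 2, 2, -2, 0, -2, -2, 2, -2, -2, 2, -2, 0],
  [2, -2, 0, 0, 2, -2, 0, 2, -2, 0, 0, 0, 0, 0, 0, 2, 4, 0, 0, 0, 0, 4, 0, -2],
  [0, 0, 2, 2, 0, 0, -2, 0, 0, -2, -2, 2, 2, -2, -2, 0, -2, 2, -2, 2, 2, 2, -2, 0],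
  [0, 0, -2, -2, 0, 0, 2, 0, 0, 2, -2, 2, 2, -2, -2, 0, 2, 2, 2, -2, 2, -2, -2, 0],
  [2, 2, 0, 0, 2, 2, 0, 2, 2, 0, 0, -4, 4, 0, 0, -2, 0, 0, 0, 0, 0, 0, 0, -2],
  [-2, 2, 0, 0, -2, 2, 0, -2, 2, 0, 0, 0, 0, 0, 0, -2, 4, 0, 0, 0, 0, 4, 0, 2],
  [0, 0, -2, 2, 0, 0, -2, 0, 0, 2, -2, -2, -2, -2, 2, 0, -2, 2, 2, -2, 2, 2, 2, 0]]

theorem ok24 : Ok R24 (tr R24) := Cfsg.Agent.CoOneType.CoFast.ok_of_okZ (by decide +kernel)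

/-- matrix -/
def R25 : List (List ℤ) := [
  [4, -4, 0, 0, 0, 0, 0, 0, 0, 0, 0, 4, -4, 0, 0, 0, 0, 0, 0, 0, 0, 0, 0, 0],
  [0, 0, 0, -4, 0, 0, 0, 0, 0, 0, 0, 0, 0, 4, 0, 0, 4, -4, 0, 0, 0, 0, 0, 0],
  [0, 0, 0, 0, 0, 0, 4, 0, 0, 0, 4, 0, 0, 0, 0, 0, 0, 0, 0, 0, -4, -4, 0, 0],
  [0, 0, 0, -4, 0, 0, 0, 0, 0, 0, 0, 0, 0, -4, 0, 0, -4, -4, 0, 0, 0, 0, 0, 0],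
  [0, 0, 0, 0, 0, 0, 0, 4, 0, 4, 0, 0, 0, 0, 0, 4, 0, 0, 0, 4, 0, 0, 0, 0],
  [0, 0, 0, 0, 0, 0, 4, 0, 0, 0, 4, 0, 0, 0, 0, 0, 0, 0, 0, 0, 4, 4, 0, 0],
  [0, 0, -4, 0, 0, 0, 0, 0, 4, 0, 0, 0, 0, 0, 0, 0, 0, 0, -4, 0, 0, 0, 0, 4],
  [0, 0, 0, 0, 0, 0, 4, 0, 0, 0, -4, 0, 0, 0, 0, 0, 0, 0, 0, 0, -4, 4, 0, 0],
  [0, 0, 0, 0, 0, 0, 0, -4, 0, -4, 0, 0, 0, 0, 0, 4, 0, 0, 0, 4, 0, 0, 0, 0],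
  [0, 0, 0, 0, 0, 0, 4, 0, 0, 0, -4, 0, 0, 0, 0, 0, 0, 0, 0, 0, 4, -4, 0, 0],
  [0, 0, 0, 0, 0, 0, 0, 4, 0, -4, 0, 0, 0, 0, 0, 4, 0, 0, 0, -4, 0, 0, 0, 0],
  [0, 0, -4, 0, 0, 0, 0, 0, 4, 0, 0, 0, 0, 0, 0, 0, 0, 0, 4, 0, 0, 0, 0, -4],
  [4, -4, 0, 0, 0, 0, 0, 0, 0, 0, 0, -4, 4, 0, 0, 0, 0, 0, 0, 0, 0, 0, 0, 0],
  [0, 0, 4, 0, 0, 0, 0, 0, 4, 0, 0, 0, 0, 0, 0, 0, 0, 0, 4, 0, 0, 0, 0, 4],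
  [0, 0, 0, 0, -4, 4, 0, 0, 0, 0, 0, 0, 0, 0, 4, 0, 0, 0, 0, 0, 0, 0, -4, 0],
  [0, 0, 0, -4, 0, 0, 0, 0, 0, 0, 0, 0, 0, 4, 0, 0, -4, 4, 0, 0, 0, 0, 0, 0],
  [0, 0, 0, 0, -4, 4, 0, 0, 0, 0, 0, 0, 0, 0, -4, 0, 0, 0, 0, 0, 0, 0, 4, 0],
  [0, 0, 0, 0, -4, -4, 0, 0, 0, 0, 0, 0, 0, 0, 4, 0, 0, 0, 0, 0, 0, 0, 4, 0],
  [0, 0, 0, 0, -4, -4, 0, 0, 0, 0, 0, 0, 0, 0, -4, 0, 0, 0, 0, 0, 0, 0, -4, 0],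
  [0, 0, 4, 0, 0, 0, 0, 0, 4, 0, 0, 0, 0, 0, 0, 0, 0, 0, -4, 0, 0, 0, 0, -4],
  [0, 0, 0, 0, 0, 0, 0, -4, 0, 4, 0, 0, 0, 0, 0, 4, 0, 0, 0, -4, 0, 0, 0, 0],
  [0, 0, 0, -4, 0, 0, 0, 0, 0, 0, 0, 0, 0, -4, 0, 0, 4, 4, 0, 0, 0, 0, 0, 0],
  [-4, -4, 0, 0, 0, 0, 0, 0, 0, 0, 0, -4, -4, 0, 0, 0, 0, 0, 0, 0, 0, 0, 0, 0],
  [-4, -4, 0, 0, 0, 0, 0, 0, 0, 0, 0, 4, 4, 0, 0, 0, 0, 0, 0, 0, 0, 0, 0, 0]]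

theorem ok25 : Ok R25 (tr R25) := Cfsg.Agent.CoOneType.CoFast.ok_of_okZ (by decide +kernel)

/-- matrix -/
def R26 : List (List ℤ) := [
  [0, -4, 0, 0, -2, 2, 0, 0, -2, -2, 0, 2, -2, 0, 0, 0, 0, 0, 0, 2, 0, 0, 4, 2],
  [-2, 2, -2, 2, 0, 0, -2, -2, 0, 0, 2, 0, 0, 2, -2, -2, -2, 2, -2, 0, -2, -2, 2, 0],
  [-2, -2, 2, 2, 0, 0, 2, -2, 0, 0, 2, 0, 0, 2, -2, 2, 2, 2, -2, 0, 2, 2, -2, 0],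
  [0, 0, 0, 0, 2, 2, 0, 0, -2, 2, 0, -2, -2, 4, 0, 0, 0, -4, 0, -2, 0, 0, 0, 2],
  [2, 2, -2, 2, 0, 0, 2, 2, 0, 0, 2, 0, 0, 2, 2, -2, 2, 2, 2, 0, 2, 2, 2, 0],
  [-4, 0, 0, 0, 2, -2, 0, 0, -2, -2, 0, -2, 2, 0, 4, 0, 0, 0, 0, 2, 0, 0, 0, 2],
  [4, 0, 0, 0, 2, -2, 0, 0, -2, -2, 0, -2, 2, 0, -4, 0, 0, 0, 0, 2, 0, 0, 0, 2],
  [0, 0, 0, 0, -2, -2, 0, -4, 2, 2, 0, -2, -2, 0, 0, 0, 0, 0, 4, 2, 0, 0, 0, 2],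
  [2, -2, -2, -2, 0, 0, -2, -2, 0, 0, -2, 0, 0, 2, 2, -2, 2, 2, -2, 0, 2, -2, -2, 0],
  [0, 0, 0, 4, -2, 2, 0, 0, 2, -2, -4, -2, 2, 0, 0, 0, 0, 0, 0, -2, 0, 0, 0, 2],
  [-2, -2, -2, -2, 0, 0, 2, 2, 0, 0, -2, 0, 0, 2, -2, -2, -2, 2, 2, 0, -2, 2, -2, 0],
  [0, 4, 0, 0, -2, 2, 0, 0, -2, -2, 0, 2, -2, 0, 0, 0, 0, 0, 0, 2, 0, 0, -4, 2],
  [0, 0, 0, 0, -2, 2, 0, 0, -2, 2, 0, -2, 2, 0, 0, 0, -4, 0, 0, 2, 4, 0, 0, -2],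
  [0, 0, 0, 0, 2, 2, -4, 0, 2, -2, 0, -2, -2, 0, 0, 0, 0, 0, 0, 2, 0, 4, 0, -2],
  [0, 0, 0, 0, -2, -2, -4, 0, -2, 2, 0, 2, 2, 0, 0, 0, 0, 0, 0, -2, 0, 4, 0, 2],
  [0, 0, -4, 0, 2, 2, 0, 0, 2, 2, 0, 2, 2, 0, 0, 4, 0, 0, 0, 2, 0, 0, 0, 2],
  [0, 0, 0, -4, -2, 2, 0, 0, 2, -2, 4, -2, 2, 0, 0, 0, 0, 0, 0, -2, 0, 0, 0, 2],
  [-2, 2, -2, -2, 0, 0, 2, -2, 0, 0, -2, 0, 0, -2, -2, -2, 2, -2, -2, 0, 2, 2, 2, 0],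
  [0, 0, 0, 0, -2, 2, 0, 0, -2, 2, 0, -2, 2, 0, 0, 0, 4, 0, 0, 2, -4, 0, 0, -2],
  [2, -2, -2, 2, 0, 0, 2, -2, 0, 0, 2, 0, 0, -2, 2, -2, -2, -2, -2, 0, -2, 2, -2, 0],
  [0, 0, 0, 0, -2, -2, 0, 0, 2, -2, 0, 2, 2, 4, 0, 0, 0, -4, 0, 2, 0, 0, 0, -2],
  [0, 0, -4, 0, -2, -2, 0, 0, -2, -2, 0, -2, -2, 0, 0, 4, 0, 0, 0, -2, 0, 0, 0, -2],
  [0, 0, 0, 0, 2, 2, 0, -4, -2, -2, 0, 2, 2, 0, 0, 0, 0, 0, 4, -2, 0, 0, 0, -2],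
  [2, 2, 2, -2, 0, 0, 2, -2, 0, 0, -2, 0, 0, 2, 2, 2, -2, 2, -2, 0, -2, 2, 2, 0]]

theorem ok26 : Ok R26 (tr R26) := Cfsg.Agent.CoOneType.CoFast.ok_of_okZ (by decide +kernel)

/-- matrix -/
def R27 : List (List ℤ) := [
  [0, 0, -2, 2, 0, 0, -2, 0, 4, 0, -4, 0, 0, 0, 2, 0, 0, 2, -2, 0, -2, 0, 2, 0],
  [0, 0, 2, -2, 0, 0, 2, 0, 4, 0, -4, 0, 0, 0, -2, 0, 0, -2, 2, 0, 2, 0, -2, 0],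
  [0, 0, 2, 2, 0, 0, -2, 0, 0, 0, 0, 0, 0, 0, -2, -4, 0, 2, -2, 4, 2, 0, -2, 0],
  [0, 0, 2, -2, 4, 0, 2, 0, 0, 0, 0, 0, 0, 0, 2, 0, -4, 2, -2, 0, -2, 0, -2, 0],
  [2, 2, 0, 0, -2, 2, 0, -2, -2, 2, -2, 2, -2, 2, 0, -2, -2, 0, 0, -2, 0, -2, 0, -2],
  [0, 0, -2, -2, 0, 0, 2, -4, 0, 0, 0, 0, 4, 0, -2, 0, 0, 2, -2, 0, 2, 0, 2, 0],
  [0, 0, -2, -2, 0, 4, -2, 0, 0, 0, 0, 0, 0, -4, 2, 0, 0, 2, 2, 0, 2, 0, -2, 0],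
  [0, 4, -2, 2, 0, 0, 2, 0, 0, -4, 0, 0, 0, 0, 2, 0, 0, -2, -2, 0, 2, 0, -2, 0],
  [4, 0, 2, -2, 0, 0, -2, 0, 0, 0, 0, -4, 0, 0, 2, 0, 0, -2, -2, 0, 2, 0, 2, 0],
  [-2, -2, 0, 0, 2, 2, 0, -2, 2, -2, 2, -2, -2, 2, 0, -2, 2, 0, 0, -2, 0, -2, 0, -2],
  [2, -2, 0, 0, 2, 2, 0, -2, -2, -2, -2, 2, -2, 2, 0, 2, 2, 0, 0, 2, 0, 2, 0, 2],
  [-4, 0, 2, -2, 0, 0, -2, 0, 0, 0, 0, 4, 0, 0, 2, 0, 0, -2, -2, 0, 2, 0, 2, 0],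
  [0, 0, 2, 2, 0, 0, 2, 0, 0, 0, 0, 0, 0, 0, 2, 0, 0, 2, 2, 0, 2, -4, 2, 4],
  [-2, -2, 0, 0, -2, -2, 0, -2, -2, -2, -2, -2, -2, -2, 0, -2, -2, 0, 0, -2, 0, 2, 0, 2],
  [0, 0, -2, 2, 4, 0, -2, 0, 0, 0, 0, 0, 0, 0, -2, 0, -4, -2, 2, 0, 2, 0, 2, 0],
  [2, 2, 0, 0, 2, -2, 0, -2, 2, 2, 2, 2, -2, -2, 0, -2, 2, 0, 0, -2, 0, 2, 0, 2],
  [2, -2, 0, 0, 2, -2, 0, 2, -2, -2, -2, 2, 2, -2, 0, -2, 2, 0, 0, -2, 0, -2, 0, -2],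
  [0, 0, -2, -2, 0, 0, 2, 4, 0, 0, 0, 0, -4, 0, -2, 0, 0, 2, -2, 0, 2, 0, 2, 0],
  [0, 0, -2, -2, 0, 0, -2, 0, 0, 0, 0, 0, 0, 0, -2, 0, 0, -2, -2, 0, -2, -4, -2, 4],
  [0, 0, 2, 2, 0, 4, 2, 0, 0, 0, 0, 0, 0, -4, -2, 0, 0, -2, -2, 0, -2, 0, 2, 0],
  [2, -2, 0, 0, -2, 2, 0, 2, 2, -2, 2, 2, 2, 2, 0, -2, -2, 0, 0, -2, 0, 2, 0, 2],
  [0, -4, -2, 2, 0, 0, 2, 0, 0, 4, 0, 0, 0, 0, 2, 0, 0, -2, -2, 0, 2, 0, -2, 0],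
  [2, -2, 0, 0, -2, -2, 0, -2, 2, -2, 2, 2, -2, -2, 0, 2, -2, 0, 0, 2, 0, -2, 0, -2],
  [0, 0, 2, 2, 0, 0, -2, 0, 0, 0, 0, 0, 0, 0, -2, 4, 0, 2, -2, -4, 2, 0, -2, 0]]

theorem ok27 : Ok R27 (tr R27) := Cfsg.Agent.CoOneType.CoFast.ok_of_okZ (by decide +kernel)

/-- matrix -/
def R28 : List (List ℤ) := [
  [0, 0, 0, 0, 0, 0, 0, -4, -4, 0, 0, 0, 0, 0, 0, 0, 0, 0, 0, -4, 0, 0, 0, 4],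
  [0, 0, 4, 0, 0, 0, 0, 0, 0, -4, 0, 0, 0, 0, 0, -4, 0, 0, -4, 0, 0, 0, 0, 0],
  [0, 0, 0, 0, 0, 0, 0, 4, -4, 0, 0, 0, 0, 0, 0, 0, 0, 0, 0, -4, 0, 0, 0, -4],
  [4, 0, 0, 4, 0, 0, 0, 0, 0, 0, 0, 0, 4, 0, 0, 0, 0, -4, 0, 0, 0, 0, 0, 0],
  [0, 0, 0, 0, 4, 0, 0, 0, 0, 0, 0, 0, 0, 0, -4, 0, 0, 0, 0, 0, -4, -4, 0, 0],
  [0, 0, 0, 0, 0, 0, 0, -4, 4, 0, 0, 0, 0, 0, 0, 0, 0, 0, 0, -4, 0, 0, 0, -4],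
  [0, 0, 0, 0, 0, -4, -4, 0, 0, 0, 4, 0, 0, 0, 0, 0, 0, 0, 0, 0, 0, 0, -4, 0],
  [0, 0, 0, 0, -4, 0, 0, 0, 0, 0, 0, 0, 0, 0, -4, 0, 0, 0, 0, 0, 4, -4, 0, 0],
  [0, 0, 4, 0, 0, 0, 0, 0, 0, 4, 0, 0, 0, 0, 0, -4, 0, 0, 4, 0, 0, 0, 0, 0],
  [0, 0, 0, 0, 0, 4, -4, 0, 0, 0, 4, 0, 0, 0, 0, 0, 0, 0, 0, 0, 0, 0, 4, 0],
  [0, 0, 4, 0, 0, 0, 0, 0, 0, 4, 0, 0, 0, 0, 0, 4, 0, 0, -4, 0, 0, 0, 0, 0],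
  [-4, 0, 0, 4, 0, 0, 0, 0, 0, 0, 0, 0, -4, 0, 0, 0, 0, -4, 0, 0, 0, 0, 0, 0],
  [4, 0, 0, -4, 0, 0, 0, 0, 0, 0, 0, 0, -4, 0, 0, 0, 0, -4, 0, 0, 0, 0, 0, 0],
  [0, 0, 0, 0, -4, 0, 0, 0, 0, 0, 0, 0, 0, 0, 4, 0, 0, 0, 0, 0, -4, -4, 0, 0],
  [0, 0, 0, 0, -4, 0, 0, 0, 0, 0, 0, 0, 0, 0, -4, 0, 0, 0, 0, 0, -4, 4, 0, 0],
  [0, 4, 0, 0, 0, 0, 0, 0, 0, 0, 0, 4, 0, 4, 0, 0, -4, 0, 0, 0, 0, 0, 0, 0],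
  [0, 4, 0, 0, 0, 0, 0, 0, 0, 0, 0, -4, 0, -4, 0, 0, -4, 0, 0, 0, 0, 0, 0, 0],
  [0, 0, 0, 0, 0, 4, -4, 0, 0, 0, -4, 0, 0, 0, 0, 0, 0, 0, 0, 0, 0, 0, -4, 0],
  [0, 4, 0, 0, 0, 0, 0, 0, 0, 0, 0, 4, 0, -4, 0, 0, 4, 0, 0, 0, 0, 0, 0, 0],
  [4, 0, 0, 4, 0, 0, 0, 0, 0, 0, 0, 0, -4, 0, 0, 0, 0, 4, 0, 0, 0, 0, 0, 0],
  [0, 0, 0, 0, 0, 4, 4, 0, 0, 0, 4, 0, 0, 0, 0, 0, 0, 0, 0, 0, 0, 0, -4, 0],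
  [0, 0, 0, 0, 0, 0, 0, -4, -4, 0, 0, 0, 0, 0, 0, 0, 0, 0, 0, 4, 0, 0, 0, -4],
  [0, 0, -4, 0, 0, 0, 0, 0, 0, 4, 0, 0, 0, 0, 0, -4, 0, 0, -4, 0, 0, 0, 0, 0],
  [0, -4, 0, 0, 0, 0, 0, 0, 0, 0, 0, 4, 0, -4, 0, 0, -4, 0, 0, 0, 0, 0, 0, 0]]

theorem ok28 : Ok R28 (tr R28) := Cfsg.Agent.CoOneType.CoFast.ok_of_okZ (by decide +kernel)

end Cfsg.Agent.LThreeCo1.Mats
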