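import Mathlib
set_option linter.all false

-- merged: Cfsg.Agent.LThreeCo1.AGrp
section

/-!
# Six commuting elements of order three (helper53)

`Ph a v = a 0 ^ v₀ ⋯ a 5 ^ v₅`, `v` a 6-tuple over `ZMod 3`, is a homomorphism; codes of such tuples as natural
numbers below `729`.
-/

set_option autoImplicit false

namespace Cfsg.Agent.LThreeCo1.AGrp

variable {G : Type*} [Group G]

/-- exponent vectors -/
abbrev V : Type := Fin 6 → ZMod 3

/-- `a 0 ^ v 0 ⋯ a 5 ^ v 5` -/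
def Ph (a : Fin 6 → G) (v : V) : G :=
  a 0 ^ (v 0).val * (a 1 ^ (v 1).val * (a 2 ^ (v 2).val * (a 3 ^ (v 3).val * (a 4 ^ (v 4).val * a 5 ^ (v 5).val))))

/-- The hypotheses: pairwise commuting, of exponent three. -/
structure Hyp (a : Fin 6 → G) : Prop where
  comm : ∀ i j, Commute (a i) (a j)
  cube : ∀ i, a i ^ 3 = 1

theorem pow_val_add {x : G} (hx : x ^ 3 = 1) (s t : ZMod 3) : x ^ (s + t).val = x ^ s.val * x ^ t.val := by
  rw [← pow_add, ZMod.val_add]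
  have h : x ^ ((s.val + t.val) % 3 + 3 * ((s.val + t.val) / 3)) = x ^ (s.val + t.val) := by rw [Nat.mod_add_div]
  rw [← h, pow_add, pow_mul, hx, one_pow, mul_one]

theorem step {u u' w w' : G} (h : Commute w u') : (u * w) * (u' * w') = (u * u') * (w * w') := by
  calc (u * w) * (u' * w') = u * (w * u') * w' := by group
    _ = u * (u' * w) * w' := by rw [h.eq]
    _ = (u * u') * (w * w') := by group

variable {a : Fin 6 → G}

theorem Hyp.add (H : Hyp a) (v w : V) : Ph a (v + w) = Ph a v * Ph a w := by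
  have hc := H.comm
  have c4 : Commute (a 5 ^ (v 5).val) (a 4 ^ (w 4).val) := (hc 5 4).pow_pow _ _
  have c3 : Commute (a 4 ^ (v 4).val * a 5 ^ (v 5).val) (a 3 ^ (w 3).val) :=
    ((hc 4 3).pow_pow _ _).mul_left ((hc 5 3).pow_pow _ _)
  have c2 : Commute (a 3 ^ (v 3).val * (a 4 ^ (v 4).val * a 5 ^ (v 5).val)) (a 2 ^ (w 2).val) :=
    ((hc 3 2).pow_pow _ _).mul_left (((hc 4 2).pow_pow _ _).mul_left ((hc 5 2).pow_pow _ _))
  have c1 : Commute (a 2 ^ (v 2).val * (a 3 ^ (v 3).val * (a 4 ^ (v 4).val * a 5 ^ (v 5).val))) (a 1 ^ (w 1).val) :=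
    ((hc 2 1).pow_pow _ _).mul_left (((hc 3 1).pow_pow _ _).mul_left (((hc 4 1).pow_pow _ _).mul_left
      ((hc 5 1).pow_pow _ _)))
  have c0 : Commute (a 1 ^ (v 1).val * (a 2 ^ (v 2).val * (a 3 ^ (v 3).val * (a 4 ^ (v 4).val *
      a 5 ^ (v 5).val)))) (a 0 ^ (w 0).val) :=
    ((hc 1 0).pow_pow _ _).mul_left (((hc 2 0).pow_pow _ _).mul_left (((hc 3 0).pow_pow _ _).mul_left
      (((hc 4 0).pow_pow _ _).mul_left ((hc 5 0).pow_pow _ _))))
  unfold Ph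
  rw [step c0, step c1, step c2, step c3, step c4]
  simp only [Pi.add_apply, pow_val_add (H.cube _)]

theorem Ph_zero (a : Fin 6 → G) : Ph a 0 = 1 := by
  unfold Ph
  simp

theorem Hyp.neg (H : Hyp a) (v : V) : Ph a (-v) = (Ph a v)⁻¹ := by
  apply eq_inv_of_mul_eq_one_left
  rw [← H.add, neg_add_cancel, Ph_zero]

theorem Hyp.ph_comm (H : Hyp a) (v w : V) : Ph a v * Ph a w = Ph a w * Ph a v := by
  rw [← H.add, ← H.add, add_comm]

theorem three (v : V) : v + v + v = 0 := by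
  funext i
  have h : ∀ x : ZMod 3, x + x + x = 0 := by decide
  exact h (v i)

theorem Hyp.ph_cube (H : Hyp a) (v : V) : Ph a v ^ 3 = 1 := by
  rw [pow_succ, pow_two, ← H.add, ← H.add, three, Ph_zero]

/-- the homomorphism -/
def hom (H : Hyp a) : Multiplicative V →* G where
  toFun v := Ph a (Multiplicative.toAdd v)
  map_one' := Ph_zero a
  map_mul' _ _ := H.add _ _

/-- The linear map with columns `c`. -/
def lin (c : Fin 6 → V) (v : V) : V :=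
  fun i => v 0 * c 0 i + (v 1 * c 1 i + (v 2 * c 2 i + (v 3 * c 3 i + (v 4 * c 4 i + v 5 * c 5 i))))

theorem Hyp.ph_pow (H : Hyp a) (v : V) (s : ZMod 3) : Ph a v ^ s.val = Ph a (fun i => s * v i) := by
  have key : ∀ n : ℕ, Ph a v ^ n = Ph a (fun i => (n : ZMod 3) * v i) := by
    intro n
    induction n with
    | zero =>
      rw [pow_zero]
      symm
      convert Ph_zero a using 2
      funext i
      simp
    | succ n ih =>
      rw [pow_succ, ih, ← H.add]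
      congr 1
      funext i
      show (n : ZMod 3) * v i + v i = ((n + 1 : ℕ) : ZMod 3) * v i
      push_cast
      ring
  rw [key]
  congr 1
  funext i
  rw [ZMod.natCast_zmod_val]

/-- Conjugation of `Ph a v`. -/
theorem Hyp.conj (H : Hyp a) {g : G} {c : Fin 6 → V} (h : ∀ j, g * a j * g⁻¹ = Ph a (c j)) (v : V) :
    g * Ph a v * g⁻¹ = Ph a (lin c v) := by
  have hp : ∀ j (n : ℕ), g * a j ^ n * g⁻¹ = (g * a j * g⁻¹) ^ n := fun j n => (conj_pow).symm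
  have e : g * Ph a v * g⁻¹ = (g * a 0 ^ (v 0).val * g⁻¹) * ((g * a 1 ^ (v 1).val * g⁻¹) *
      ((g * a 2 ^ (v 2).val * g⁻¹) * ((g * a 3 ^ (v 3).val * g⁻¹) * ((g * a 4 ^ (v 4).val * g⁻¹) *
        (g * a 5 ^ (v 5).val * g⁻¹))))) := by
    unfold Ph; group
  rw [e, hp, hp, hp, hp, hp, hp, h, h, h, h, h, h, H.ph_pow, H.ph_pow, H.ph_pow, H.ph_pow, H.ph_pow, H.ph_pow,
    ← H.add, ← H.add, ← H.add, ← H.add, ← H.add]
  rfl

/-! ### Codes -/

/-- The vector with code `n`. -/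
def vc (n : ℕ) : V := fun i => ((n / 3 ^ i.val : ℕ) : ZMod 3)

/-- digit -/
def dg (n i : ℕ) : ℕ := n / 3 ^ i % 3

theorem vc_apply (n : ℕ) (i : Fin 6) : vc n i = (dg n i.val : ZMod 3) := by
  unfold vc dg
  rw [ZMod.natCast_mod]

/-- The code with given digits. -/
def cd (d0 d1 d2 d3 d4 d5 : ℕ) : ℕ := d0 + 3 * (d1 + 3 * (d2 + 3 * (d3 + 3 * (d4 + 3 * d5))))

theorem vc_cd (d0 d1 d2 d3 d4 d5 : ℕ) (h0 : d0 < 3) (h1 : d1 < 3) (h2 : d2 < 3) (h3 : d3 < 3) (h4 : d4 < 3)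
    (h5 : d5 < 3) : vc (cd d0 d1 d2 d3 d4 d5) =
      ![(d0 : ZMod 3), (d1 : ZMod 3), (d2 : ZMod 3), (d3 : ZMod 3), (d4 : ZMod 3), (d5 : ZMod 3)] := by
  funext i
  rw [vc_apply]
  have e0 : dg (cd d0 d1 d2 d3 d4 d5) 0 = d0 := by unfold dg cd; omega
  have e1 : dg (cd d0 d1 d2 d3 d4 d5) 1 = d1 := by unfold dg cd; omega
  have e2 : dg (cd d0 d1 d2 d3 d4 d5) 2 = d2 := by unfold dg cd; omega
  have e3 : dg (cd d0 d1 d2 d3 d4 d5) 3 = d3 := by unfold dg cd; omega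
  have e4 : dg (cd d0 d1 d2 d3 d4 d5) 4 = d4 := by unfold dg cd; omega
  have e5 : dg (cd d0 d1 d2 d3 d4 d5) 5 = d5 := by unfold dg cd; omega
  fin_cases i
  · show (dg _ 0 : ZMod 3) = _; rw [e0]; rfl
  · show (dg _ 1 : ZMod 3) = _; rw [e1]; rfl
  · show (dg _ 2 : ZMod 3) = _; rw [e2]; rfl
  · show (dg _ 3 : ZMod 3) = _; rw [e3]; rfl
  · show (dg _ 4 : ZMod 3) = _; rw [e4]; rfl
  · show (dg _ 5 : ZMod 3) = _; rw [e5]; rfl

theorem exists_vc (v : V) : ∃ n, n < 729 ∧ vc n = v := by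
  refine ⟨cd (v 0).val (v 1).val (v 2).val (v 3).val (v 4).val (v 5).val, ?_, ?_⟩
  · have h : ∀ i, (v i).val < 3 := fun i => ZMod.val_lt _
    have h0 := h 0; have h1 := h 1; have h2 := h 2; have h3 := h 3; have h4 := h 4; have h5 := h 5
    unfold cd; omega
  · rw [vc_cd _ _ _ _ _ _ (ZMod.val_lt _) (ZMod.val_lt _) (ZMod.val_lt _) (ZMod.val_lt _) (ZMod.val_lt _)
      (ZMod.val_lt _)]
    funext i
    fin_cases i <;> exact ZMod.natCast_zmod_val _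

/-- digit of the image under the map with column codes `c` -/
def dl (c : ℕ → ℕ) (n i : ℕ) : ℕ :=
  (dg n 0 * dg (c 0) i + dg n 1 * dg (c 1) i + dg n 2 * dg (c 2) i + dg n 3 * dg (c 3) i + dg n 4 * dg (c 4) i +
    dg n 5 * dg (c 5) i) % 3

/-- code of the image -/
def ln (c : ℕ → ℕ) (n : ℕ) : ℕ := cd (dl c n 0) (dl c n 1) (dl c n 2) (dl c n 3) (dl c n 4) (dl c n 5)

theorem vc_ln (c : ℕ → ℕ) (n : ℕ) : vc (ln c n) = lin (fun j => vc (c j.val)) (vc n) := by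
  have hlt : ∀ i, dl c n i < 3 := fun i => Nat.mod_lt _ (by norm_num)
  unfold ln
  rw [vc_cd _ _ _ _ _ _ (hlt _) (hlt _) (hlt _) (hlt _) (hlt _) (hlt _)]
  have key : ∀ i : Fin 6, ((dl c n i.val : ℕ) : ZMod 3) = lin (fun j => vc (c j.val)) (vc n) i := by
    intro i
    unfold dl lin
    rw [ZMod.natCast_mod]
    simp only [vc_apply]
    push_cast
    simp only [Fin.val_zero, Fin.val_one]
    ring_nf
    rfl
  funext i
  fin_cases i
  · exact key 0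
  · exact key 1
  · exact key 2
  · exact key 3
  · exact key 4
  · exact key 5

/-- sum of codes -/
def ad (m n : ℕ) : ℕ := cd ((dg m 0 + dg n 0) % 3) ((dg m 1 + dg n 1) % 3) ((dg m 2 + dg n 2) % 3)
  ((dg m 3 + dg n 3) % 3) ((dg m 4 + dg n 4) % 3) ((dg m 5 + dg n 5) % 3)

theorem vc_ad (m n : ℕ) : vc (ad m n) = vc m + vc n := by
  unfold ad
  rw [vc_cd _ _ _ _ _ _ (Nat.mod_lt _ (by norm_num)) (Nat.mod_lt _ (by norm_num)) (Nat.mod_lt _ (by norm_num))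
    (Nat.mod_lt _ (by norm_num)) (Nat.mod_lt _ (by norm_num)) (Nat.mod_lt _ (by norm_num))]
  have key : ∀ i : Fin 6, (((dg m i.val + dg n i.val) % 3 : ℕ) : ZMod 3) = (vc m + vc n) i := by
    intro i
    rw [ZMod.natCast_mod, Pi.add_apply, vc_apply, vc_apply]
    push_cast
    rfl
  funext i
  fin_cases i
  · exact key 0
  · exact key 1
  · exact key 2
  · exact key 3
  · exact key 4
  · exact key 5

end Cfsg.Agent.LThreeCo1.AGrp

end

-- merged: Cfsg.Agent.LThreeCo1.Heis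
section

/-!
# The group `3^6 : 3^{1+2}` (helper53)

`N b i j k = b₁^i b₂^j b₃^k` with `b₃ = [b₁, b₂]` central of order three.
-/

set_option autoImplicit false

namespace Cfsg.Agent.LThreeCo1.Heis

open Cfsg.Agent.LThreeCo1.AGrp

variable {G : Type*} [Group G]

/-- Relations of `3^{1+2}`. -/
structure Rel (b1 b2 b3 : G) : Prop where
  c1 : b1 ^ 3 = 1
  c2 : b2 ^ 3 = 1
  c3 : b3 ^ 3 = 1
  comm : b1 * b2 = b3 * (b2 * b1)
  z1 : Commute b3 b1
  z2 : Commute b3 b2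

/-- Normal form. -/
def N (b1 b2 b3 : G) (i j k : ZMod 3) : G := b1 ^ i.val * b2 ^ j.val * b3 ^ k.val

variable {b1 b2 b3 : G}

theorem pow_mod {x : G} (hx : x ^ 3 = 1) {m n : ℕ} (h : (m : ZMod 3) = n) : x ^ m = x ^ n := by
  have h1 : m % 3 = n % 3 := (ZMod.natCast_eq_natCast_iff' m n 3).1 h
  have key : ∀ k, x ^ k = x ^ (k % 3) := by
    intro k
    conv_lhs => rw [← Nat.mod_add_div k 3]
    rw [pow_add, pow_mul, hx, one_pow, mul_one]
  rw [key m, key n, h1]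

theorem Rel.swap (R : Rel b1 b2 b3) (i j : ℕ) : b2 ^ j * b1 ^ i = b1 ^ i * b2 ^ j * b3 ^ (2 * (i * j)) := by
  have h0 : b2 * b1 = b1 * b2 * b3 ^ 2 := by
    have h1 : b3 ^ 2 * b3 = 1 := by rw [← pow_succ]; exact R.c3
    have h2 : b3 ^ 2 * (b1 * b2) = b2 * b1 := by rw [R.comm, ← mul_assoc, h1, one_mul]
    rw [← h2]
    exact (((R.z1.mul_right R.z2).pow_left 2)).eq
  have hc1 : ∀ m n, b3 ^ m * b1 ^ n = b1 ^ n * b3 ^ m := fun m n => (R.z1.pow_pow m n).eq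
  have hc2 : ∀ m n, b3 ^ m * b2 ^ n = b2 ^ n * b3 ^ m := fun m n => (R.z2.pow_pow m n).eq
  have h1 : ∀ i, b2 * b1 ^ i = b1 ^ i * b2 * b3 ^ (2 * i) := by
    intro i
    induction i with
    | zero => simp
    | succ i ih =>
      calc b2 * b1 ^ (i + 1) = (b2 * b1 ^ i) * b1 := by rw [pow_succ, mul_assoc]
        _ = b1 ^ i * b2 * (b3 ^ (2 * i) * b1 ^ 1) := by rw [ih, pow_one]; group
        _ = b1 ^ i * (b2 * b1) * b3 ^ (2 * i) := by rw [hc1, pow_one]; group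
        _ = b1 ^ i * (b1 * b2 * b3 ^ 2) * b3 ^ (2 * i) := by rw [h0]
        _ = b1 ^ (i + 1) * b2 * (b3 ^ 2 * b3 ^ (2 * i)) := by rw [pow_succ]; group
        _ = b1 ^ (i + 1) * b2 * b3 ^ (2 * (i + 1)) := by rw [← pow_add]; congr 2; ring
  induction j with
  | zero => simp
  | succ j ih =>
    calc b2 ^ (j + 1) * b1 ^ i = b2 * (b2 ^ j * b1 ^ i) := by rw [pow_succ', mul_assoc]
      _ = (b2 * b1 ^ i) * b2 ^ j * b3 ^ (2 * (i * j)) := by rw [ih]; group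
      _ = b1 ^ i * b2 * (b3 ^ (2 * i) * b2 ^ j) * b3 ^ (2 * (i * j)) := by rw [h1]; group
      _ = b1 ^ i * b2 * (b2 ^ j * b3 ^ (2 * i)) * b3 ^ (2 * (i * j)) := by rw [hc2]
      _ = b1 ^ i * (b2 * b2 ^ j) * (b3 ^ (2 * i) * b3 ^ (2 * (i * j))) := by group
      _ = b1 ^ i * b2 ^ (j + 1) * b3 ^ (2 * (i * (j + 1))) := by
        rw [← pow_succ', ← pow_add]; congr 2; ring

theorem Rel.N_mul (R : Rel b1 b2 b3) (i j k i' j' k' : ZMod 3) :
    N b1 b2 b3 i j k * N b1 b2 b3 i' j' k' = N b1 b2 b3 (i + i') (j + j') (k + k' + 2 * (i' * j)) := by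
  have hc1 : ∀ m n, b3 ^ m * b1 ^ n = b1 ^ n * b3 ^ m := fun m n => (R.z1.pow_pow m n).eq
  have hc2 : ∀ m n, b3 ^ m * b2 ^ n = b2 ^ n * b3 ^ m := fun m n => (R.z2.pow_pow m n).eq
  unfold N
  calc b1 ^ i.val * b2 ^ j.val * b3 ^ k.val * (b1 ^ i'.val * b2 ^ j'.val * b3 ^ k'.val)
      = b1 ^ i.val * b2 ^ j.val * (b3 ^ k.val * b1 ^ i'.val) * b2 ^ j'.val * b3 ^ k'.val := by group
    _ = b1 ^ i.val * (b2 ^ j.val * b1 ^ i'.val) * (b3 ^ k.val * b2 ^ j'.val) * b3 ^ k'.val := by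
        rw [hc1]; group
    _ = b1 ^ i.val * (b1 ^ i'.val * b2 ^ j.val * b3 ^ (2 * (i'.val * j.val))) * (b2 ^ j'.val * b3 ^ k.val) *
          b3 ^ k'.val := by rw [R.swap, hc2]
    _ = b1 ^ i.val * b1 ^ i'.val * b2 ^ j.val * (b3 ^ (2 * (i'.val * j.val)) * b2 ^ j'.val) * b3 ^ k.val *
          b3 ^ k'.val := by group
    _ = b1 ^ i.val * b1 ^ i'.val * b2 ^ j.val * (b2 ^ j'.val * b3 ^ (2 * (i'.val * j.val))) * b3 ^ k.val *
          b3 ^ k'.val := by rw [hc2]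
    _ = (b1 ^ i.val * b1 ^ i'.val) * (b2 ^ j.val * b2 ^ j'.val) *
          (b3 ^ (2 * (i'.val * j.val)) * b3 ^ k.val * b3 ^ k'.val) := by group
    _ = b1 ^ (i.val + i'.val) * b2 ^ (j.val + j'.val) * b3 ^ (2 * (i'.val * j.val) + k.val + k'.val) := by
        rw [← pow_add, ← pow_add, ← pow_add, ← pow_add]
    _ = _ := by
        rw [pow_mod R.c1 (m := i.val + i'.val) (n := (i + i').val) (by push_cast; simp),
          pow_mod R.c2 (m := j.val + j'.val) (n := (j + j').val) (by push_cast; simp),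
          pow_mod R.c3 (m := 2 * (i'.val * j.val) + k.val + k'.val) (n := (k + k' + 2 * (i' * j)).val)
            (by push_cast; simp only [ZMod.natCast_zmod_val]; ring)]

theorem N_zero (b1 b2 b3 : G) : N b1 b2 b3 0 0 0 = 1 := by simp [N]

theorem Rel.N_inv (R : Rel b1 b2 b3) (i j k : ZMod 3) :
    (N b1 b2 b3 i j k)⁻¹ = N b1 b2 b3 (-i) (-j) (-k + 2 * (i * j)) := by
  symm
  apply eq_inv_of_mul_eq_one_left
  rw [R.N_mul, ← N_zero b1 b2 b3]
  congr 1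
  · ring
  · ring
  · ring

/-- The five classes of cosets, as exponents. -/
def five : List (ZMod 3 × ZMod 3 × ZMod 3) := [(1, 0, 0), (0, 1, 0), (1, 1, 0), (1, 2, 0), (0, 0, 1)]

/-- product of exponents -/
def pm (x y : ZMod 3 × ZMod 3 × ZMod 3) : ZMod 3 × ZMod 3 × ZMod 3 :=
  (x.1 + y.1, x.2.1 + y.2.1, x.2.2 + y.2.2 + 2 * (y.1 * x.2.1))

/-- `N` of a triple. -/
def NN (b1 b2 b3 : G) (x : ZMod 3 × ZMod 3 × ZMod 3) : G := N b1 b2 b3 x.1 x.2.1 x.2.2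

theorem Rel.NN_mul (R : Rel b1 b2 b3) (x y : ZMod 3 × ZMod 3 × ZMod 3) :
    NN b1 b2 b3 x * NN b1 b2 b3 y = NN b1 b2 b3 (pm x y) := R.N_mul _ _ _ _ _ _

/-- inverse of exponents -/
def nv (x : ZMod 3 × ZMod 3 × ZMod 3) : ZMod 3 × ZMod 3 × ZMod 3 :=
  (-x.1, -x.2.1, -x.2.2 + 2 * (x.1 * x.2.1))

theorem Rel.NN_inv (R : Rel b1 b2 b3) (x : ZMod 3 × ZMod 3 × ZMod 3) : (NN b1 b2 b3 x)⁻¹ = NN b1 b2 b3 (nv x) :=
  R.N_inv _ _ _

theorem table : ∀ i j k : ZMod 3, (i, j, k) ≠ (0, 0, 0) → ∃ x y : ZMod 3, ∃ f ∈ five,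
    pm (x, y, 0) (i, j, k) = pm f (x, y, 0) ∨ pm (x, y, 0) (nv (i, j, k)) = pm f (x, y, 0) := by
  decide +kernel

theorem Rel.exists_conj (R : Rel b1 b2 b3) {x : ZMod 3 × ZMod 3 × ZMod 3} (hx : x ≠ (0, 0, 0)) :
    ∃ s : ZMod 3 × ZMod 3 × ZMod 3, ∃ f ∈ five,
      NN b1 b2 b3 s * NN b1 b2 b3 x * (NN b1 b2 b3 s)⁻¹ = NN b1 b2 b3 f ∨
      NN b1 b2 b3 s * (NN b1 b2 b3 x)⁻¹ * (NN b1 b2 b3 s)⁻¹ = NN b1 b2 b3 f := by
  obtain ⟨i, j, k⟩ := x
  obtain ⟨p, q, f, hf, h⟩ := table i j k hx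
  refine ⟨(p, q, 0), f, hf, ?_⟩
  rcases h with h | h
  · left; rw [R.NN_mul, h, ← R.NN_mul, mul_inv_cancel_right]
  · right; rw [R.NN_inv, R.NN_mul, h, ← R.NN_mul, mul_inv_cancel_right]

end Cfsg.Agent.LThreeCo1.Heis

end

-- merged: Cfsg.Agent.LThreeCo1.SylCls
section

/-!
# Elements of order three of a group with Sylow 3-subgroup `3^6 : 3^{1+2}` (helper53)
-/

set_option autoImplicit false

namespace Cfsg.Agent.LThreeCo1.SylCls

open Cfsg.Agent.LThreeCo1.AGrp Cfsg.Agent.LThreeCo1.Heis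

variable {G : Type*} [Group G]

abbrev T3 : Type := ZMod 3 × ZMod 3 × ZMod 3

/-- `a` elementary abelian of order `3^6`, normalized by `b₁, b₂, b₃`. -/
structure Dat (a : Fin 6 → G) (b1 b2 b3 : G) : Prop where
  A : AGrp.Hyp a
  R : Rel b1 b2 b3
  n1 : ∀ v, ∃ w, b1 * Ph a v * b1⁻¹ = Ph a w
  n2 : ∀ v, ∃ w, b2 * Ph a v * b2⁻¹ = Ph a w
  n3 : ∀ v, ∃ w, b3 * Ph a v * b3⁻¹ = Ph a w

variable {a : Fin 6 → G} {b1 b2 b3 : G}

theorem norm_pow {x : G} (h : ∀ v, ∃ w, x * Ph a v * x⁻¹ = Ph a w) (n : ℕ) :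
    ∀ v, ∃ w, x ^ n * Ph a v * (x ^ n)⁻¹ = Ph a w := by
  induction n with
  | zero => intro v; exact ⟨v, by simp⟩
  | succ n ih =>
    intro v
    obtain ⟨w, hw⟩ := ih v
    obtain ⟨u, hu⟩ := h w
    refine ⟨u, ?_⟩
    rw [← hu, ← hw, pow_succ']
    group

theorem norm_mul {x y : G} (hx : ∀ v, ∃ w, x * Ph a v * x⁻¹ = Ph a w) (hy : ∀ v, ∃ w, y * Ph a v * y⁻¹ = Ph a w) :
    ∀ v, ∃ w, (x * y) * Ph a v * (x * y)⁻¹ = Ph a w := by
  intro v
  obtain ⟨w, hw⟩ := hy v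
  obtain ⟨u, hu⟩ := hx w
  refine ⟨u, ?_⟩
  rw [← hu, ← hw]
  group

theorem Dat.norm (D : Dat a b1 b2 b3) (x : T3) : ∀ v, ∃ w,
    NN b1 b2 b3 x * Ph a v * (NN b1 b2 b3 x)⁻¹ = Ph a w := by
  unfold NN N
  exact norm_mul (norm_mul (norm_pow D.n1 _) (norm_pow D.n2 _)) (norm_pow D.n3 _)

/-- The set of elements `a b`. -/
def carr (a : Fin 6 → G) (b1 b2 b3 : G) : Set G := {g | ∃ v x, g = Ph a v * NN b1 b2 b3 x}

theorem Dat.mul_mem (D : Dat a b1 b2 b3) {g h : G} (hg : g ∈ carr a b1 b2 b3) (hh : h ∈ carr a b1 b2 b3) :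
    g * h ∈ carr a b1 b2 b3 := by
  obtain ⟨v, x, rfl⟩ := hg
  obtain ⟨w, y, rfl⟩ := hh
  obtain ⟨w', hw'⟩ := D.norm x w
  refine ⟨v + w', pm x y, ?_⟩
  rw [D.A.add, ← D.R.NN_mul, ← hw']
  group

theorem one_mem' (a : Fin 6 → G) (b1 b2 b3 : G) : (1 : G) ∈ carr a b1 b2 b3 :=
  ⟨0, (0, 0, 0), by rw [Ph_zero, NN, N_zero, mul_one]⟩

/-- The subgroup `3^6 : 3^{1+2}`. -/
def PP [Finite G] (D : Dat a b1 b2 b3) : Subgroup G where
  carrier := carr a b1 b2 b3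
  mul_mem' := D.mul_mem
  one_mem' := one_mem' a b1 b2 b3
  inv_mem' := by
    intro x hx
    have h1 : ∀ n : ℕ, x ^ n ∈ carr a b1 b2 b3 := by
      intro n
      induction n with
      | zero => rw [pow_zero]; exact one_mem' a b1 b2 b3
      | succ n ih => rw [pow_succ]; exact D.mul_mem ih hx
    have h2 : x⁻¹ = x ^ (orderOf x - 1) := by
      apply inv_eq_of_mul_eq_one_right
      rw [← pow_succ', Nat.sub_add_cancel (orderOf_pos x), pow_orderOf_eq_one]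
    rw [h2]
    exact h1 _

/-- injectivity data -/
structure Inj (a : Fin 6 → G) (b1 b2 b3 : G) : Prop where
  inj : ∀ v, Ph a v = 1 → v = 0
  reg : ∀ x y : T3, (∀ v, NN b1 b2 b3 x * Ph a v * (NN b1 b2 b3 x)⁻¹ = NN b1 b2 b3 y * Ph a v * (NN b1 b2 b3 y)⁻¹) →
    x = y

theorem card_PP [Finite G] (D : Dat a b1 b2 b3) (I : Inj a b1 b2 b3) : Nat.card (PP D) = 3 ^ 9 := by
  have h1 : Nat.card (V × T3) = 3 ^ 9 := by
    rw [Nat.card_prod, Nat.card_eq_fintype_card, Nat.card_eq_fintype_card]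
    simp [ZMod.card, Fintype.card_prod]
  rw [← h1]
  symm
  apply Nat.card_congr
  refine Equiv.ofBijective (fun p => (⟨Ph a p.1 * NN b1 b2 b3 p.2, ⟨p.1, p.2, rfl⟩⟩ : PP D)) ⟨?_, ?_⟩
  · rintro ⟨v, x⟩ ⟨w, y⟩ h
    have h2 : Ph a v * NN b1 b2 b3 x = Ph a w * NN b1 b2 b3 y := congrArg Subtype.val h
    have h3 : x = y := by
      apply I.reg
      intro u
      obtain ⟨u', hu'⟩ := D.norm x u
      obtain ⟨u'', hu''⟩ := D.norm y u
      have h4 : ∀ s t, Ph a s * Ph a t * (Ph a s)⁻¹ = Ph a t := fun s t => by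
        rw [D.A.ph_comm, mul_inv_cancel_right]
      calc NN b1 b2 b3 x * Ph a u * (NN b1 b2 b3 x)⁻¹
          = Ph a v * (NN b1 b2 b3 x * Ph a u * (NN b1 b2 b3 x)⁻¹) * (Ph a v)⁻¹ := by rw [hu', h4]
        _ = (Ph a v * NN b1 b2 b3 x) * Ph a u * (Ph a v * NN b1 b2 b3 x)⁻¹ := by group
        _ = (Ph a w * NN b1 b2 b3 y) * Ph a u * (Ph a w * NN b1 b2 b3 y)⁻¹ := by rw [h2]
        _ = Ph a w * (NN b1 b2 b3 y * Ph a u * (NN b1 b2 b3 y)⁻¹) * (Ph a w)⁻¹ := by group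
        _ = NN b1 b2 b3 y * Ph a u * (NN b1 b2 b3 y)⁻¹ := by rw [hu'', h4]
    subst h3
    have h5 : Ph a v = Ph a w := mul_right_cancel h2
    have h6 : v - w = 0 := by
      apply I.inj
      rw [sub_eq_add_neg, D.A.add, D.A.neg, h5, mul_inv_cancel]
    rw [sub_eq_zero.1 h6]
  · rintro ⟨g, v, x, rfl⟩
    exact ⟨(v, x), rfl⟩

/-- Every `3`-element is conjugate to an element of `PP`. -/
theorem exists_conj_mem [Finite G] (D : Dat a b1 b2 b3) (I : Inj a b1 b2 b3) {m : ℕ}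
    (hG : Nat.card G = 3 ^ 9 * m) (hm : ¬ 3 ∣ m) {g : G} (hg : ∃ k, g ^ 3 ^ k = 1) :
    ∃ c : G, c * g * c⁻¹ ∈ carr a b1 b2 b3 := by
  have : Fact (Nat.Prime 3) := ⟨Nat.prime_three⟩
  have hP : IsPGroup 3 (PP D) := IsPGroup.of_card (card_PP D I)
  obtain ⟨Q, hQ⟩ := hP.exists_le_sylow
  have hQc : Nat.card Q = 3 ^ 9 := by
    obtain ⟨n, hn⟩ := IsPGroup.iff_card.1 Q.isPGroup'
    have h1 : 3 ^ 9 ∣ 3 ^ n := by rw [← hn, ← card_PP D I]; exact Subgroup.card_dvd_of_le hQ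
    have h2 : 3 ^ n ∣ 3 ^ 9 * m := by rw [← hn, ← hG]; exact Subgroup.card_subgroup_dvd_card _
    have h3 : 9 ≤ n := (Nat.pow_dvd_pow_iff_le_right (by norm_num)).1 h1
    have h4 : n ≤ 9 := by
      by_contra hcon
      push Not at hcon
      have h5 : 3 ^ 10 ∣ 3 ^ 9 * m := (pow_dvd_pow 3 hcon).trans h2
      rw [pow_succ] at h5
      exact hm (Nat.dvd_of_mul_dvd_mul_left (by norm_num) h5)
    rw [hn, le_antisymm h4 h3]
  have hPQ : PP D = Q := Subgroup.eq_of_le_of_card_ge hQ (by rw [hQc, card_PP D I])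
  have hgp : IsPGroup 3 (Subgroup.zpowers g) := by
    obtain ⟨k, hk⟩ := hg
    rintro ⟨_, n, rfl⟩
    refine ⟨k, Subtype.ext ?_⟩
    show (g ^ n) ^ 3 ^ k = 1
    rw [← zpow_natCast, ← zpow_mul, mul_comm, zpow_mul, zpow_natCast, hk, one_zpow]
  obtain ⟨S, hS⟩ := hgp.exists_le_sylow
  obtain ⟨c, hc⟩ := MulAction.exists_smul_eq G S Q
  refine ⟨c, ?_⟩
  have h1 : c * g * c⁻¹ ∈ (Q : Subgroup G) := by
    rw [← hc]
    exact ⟨g, hS (Subgroup.mem_zpowers g), rfl⟩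
  rw [← hPQ] at h1
  exact h1

/-- **Classification**, abstract form. -/
theorem main [Finite G] (D : Dat a b1 b2 b3) (I : Inj a b1 b2 b3) {m : ℕ}
    (hG : Nat.card G = 3 ^ 9 * m) (hm : ¬ 3 ∣ m) (Good : G → Prop)
    (hconj : ∀ g c, Good (c * g * c⁻¹) → Good g) (hinv : ∀ g, Good g⁻¹ → Good g)
    (hA : ∀ v, v ≠ 0 → Good (Ph a v))
    (hB : ∀ f ∈ five, ∀ v, (Ph a v * NN b1 b2 b3 f) ^ 3 = 1 → Good (Ph a v * NN b1 b2 b3 f))
    {g : G} (hg : orderOf g = 3) : Good g := by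
  obtain ⟨c, v, x, hc⟩ := exists_conj_mem D I hG hm (g := g) ⟨1, by rw [pow_one, ← hg, pow_orderOf_eq_one]⟩
  apply hconj g c
  rw [hc]
  have h3 : (Ph a v * NN b1 b2 b3 x) ^ 3 = 1 := by
    rw [← hc, conj_pow, ← hg, pow_orderOf_eq_one]; group
  by_cases hx : x = (0, 0, 0)
  · subst hx
    rw [NN, N_zero, mul_one]
    apply hA
    rintro rfl
    rw [NN, N_zero, mul_one, Ph_zero] at hc
    have h1 : g = 1 := by
      calc g = c⁻¹ * (c * g * c⁻¹) * c := by group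
        _ = 1 := by rw [hc]; group
    rw [h1, orderOf_one] at hg
    norm_num at hg
  · obtain ⟨s, f, hf, h | h⟩ := D.R.exists_conj hx
    · obtain ⟨w, hw⟩ := D.norm s v
      have e : NN b1 b2 b3 s * (Ph a v * NN b1 b2 b3 x) * (NN b1 b2 b3 s)⁻¹ = Ph a w * NN b1 b2 b3 f := by
        rw [← h, ← hw]; group
      apply hconj _ (NN b1 b2 b3 s)
      rw [e]
      apply hB f hf
      rw [← e, conj_pow, h3]; group
    · apply hinv
      obtain ⟨w, hw⟩ := D.norm (nv x) (-v)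
      obtain ⟨u, hu⟩ := D.norm s w
      have e1 : (Ph a v * NN b1 b2 b3 x)⁻¹ = Ph a w * (NN b1 b2 b3 x)⁻¹ := by
        rw [← hw, ← D.R.NN_inv, D.A.neg]; group
      have e : NN b1 b2 b3 s * (Ph a v * NN b1 b2 b3 x)⁻¹ * (NN b1 b2 b3 s)⁻¹ = Ph a u * NN b1 b2 b3 f := by
        rw [e1, ← h, ← hu]; group
      apply hconj _ (NN b1 b2 b3 s)
      rw [e]
      apply hB f hf
      rw [← e, conj_pow, inv_pow, h3]; group

/-! ### A coset -/

/-- reduction check: `act` is conjugation by `β` on codes -/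
def chk (act s : ℕ → ℕ) (reps : List ℕ) : Bool :=
  (List.range 729).all fun n => !(Nat.beq (ad (ad n (act n)) (act (act n))) 0) ||
    reps.any fun r => Nat.beq (ad (ad n (s n)) (act (ad (s n) (s n)))) r

theorem coset (A : AGrp.Hyp a) (hinj : ∀ v, Ph a v = 1 → v = 0) {β : G} (hβ : β ^ 3 = 1) {act s : ℕ → ℕ}
    (hact : ∀ n, β * Ph a (vc n) * β⁻¹ = Ph a (vc (act n))) {reps : List ℕ} (hchk : chk act s reps = true)
    {v : V} (h : (Ph a v * β) ^ 3 = 1) :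
    ∃ r ∈ reps, ∃ c : G, c * (Ph a v * β) * c⁻¹ = Ph a (vc r) * β := by
  obtain ⟨n, hn, rfl⟩ := exists_vc v
  have h1 := List.all_eq_true.1 hchk n (List.mem_range.2 hn)
  rw [Bool.or_eq_true, Bool.not_eq_true'] at h1
  have hN : Ph a (vc (ad (ad n (act n)) (act (act n)))) = 1 := by
    rw [vc_ad, vc_ad, A.add, A.add, ← hact (act n), ← hact n]
    calc Ph a (vc n) * (β * Ph a (vc n) * β⁻¹) * (β * (β * Ph a (vc n) * β⁻¹) * β⁻¹)
        = (Ph a (vc n) * β) ^ 3 * (β ^ 3)⁻¹ := by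
          simp only [pow_succ, pow_zero, one_mul]; group
      _ = 1 := by rw [h, hβ]; group
  have hlt : ∀ m k, ad m k < 729 := by
    intro m k
    unfold ad cd
    have h0 := Nat.mod_lt (dg m 0 + dg k 0) (show 0 < 3 by norm_num)
    have h1 := Nat.mod_lt (dg m 1 + dg k 1) (show 0 < 3 by norm_num)
    have h2 := Nat.mod_lt (dg m 2 + dg k 2) (show 0 < 3 by norm_num)
    have h3 := Nat.mod_lt (dg m 3 + dg k 3) (show 0 < 3 by norm_num)
    have h4 := Nat.mod_lt (dg m 4 + dg k 4) (show 0 < 3 by norm_num)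
    have h5 := Nat.mod_lt (dg m 5 + dg k 5) (show 0 < 3 by norm_num)
    omega
  have h0 := hinj _ hN
  have h2 : ad (ad n (act n)) (act (act n)) = 0 := by
    have hl := hlt (ad n (act n)) (act (act n))
    revert h0 hl
    generalize ad (ad n (act n)) (act (act n)) = q
    intro h0 hl
    have hd : ∀ i : Fin 6, dg q i.val = 0 := by
      intro i
      have h3 : vc q i = 0 := by rw [h0]; rfl
      rw [vc_apply, ZMod.natCast_eq_zero_iff] at h3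
      have h4 : dg q i.val < 3 := Nat.mod_lt _ (by norm_num)
      exact Nat.eq_zero_of_dvd_of_lt h3 h4
    have d0 : dg q 0 = 0 := hd 0
    have d1 : dg q 1 = 0 := hd 1
    have d2 : dg q 2 = 0 := hd 2
    have d3 : dg q 3 = 0 := hd 3
    have d4 : dg q 4 = 0 := hd 4
    have d5 : dg q 5 = 0 := hd 5
    unfold dg at d0 d1 d2 d3 d4 d5
    omega
  rcases h1 with h1 | h1
  · exfalso
    rw [h2] at h1
    exact absurd h1 (by decide)
  · rw [List.any_eq_true] at h1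
    obtain ⟨r, hr, h3⟩ := h1
    have h4 := Nat.eq_of_beq_eq_true h3
    refine ⟨r, hr, Ph a (vc (s n)), ?_⟩
    rw [← h4, vc_ad, vc_ad, A.add, A.add, ← hact, vc_ad, A.add]
    have e : (Ph a (vc (s n)))⁻¹ = Ph a (vc (s n)) * Ph a (vc (s n)) := by
      apply inv_eq_of_mul_eq_one_left
      have := A.ph_cube (vc (s n))
      rw [pow_succ, pow_two] at this
      exact this
    rw [e, A.ph_comm (vc n) (vc (s n))]
    group

end Cfsg.Agent.LThreeCo1.SylCls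

end
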