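import Cfsg.Agent.LThreeCo1.Ev
import Cfsg.Agent.LThreeCo1.MatA
import Cfsg.Agent.LThreeCo1.MatB_mg
import Cfsg.Agent.LThreeCo1.MatD_mg
import Cfsg.Agent.LThreeCo1.MatG
import Cfsg.Agent.LThreeCo1.SylCls
set_option linter.all false

-- part: LThreeCo1/MatF
section
/-!
# Explicit elements of `Co0` (helper53; generated)
-/

set_option autoImplicit false
set_option maxRecDepth 20000

namespace Cfsg.Agent.LThreeCo1.Mats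

open Cfsg.Agent.LThreeCo1.Ev Cfsg.Agent.SporadicStructure.Co0Matrix Cfsg.Agent.CoOneType.CoEval

/-- matrix -/
def R20 : List (List ℤ) := [
  [2, 2, -2, 0, -2, -2, 0, -2, 2, -2, -2, 0, 0, 2, 0, -2, 0, 2, 2, 2, -2, 0, 0, 2],
  [2, -2, -2, 0, -2, 2, 0, 2, 2, 2, -2, 0, 0, 2, 0, -2, 0, -2, 2, -2, 2, 0, 0, -2],
  [4, 0, 0, 2, 4, 0, 2, 0, 0, 0, 0, 2, 2, 0, -2, 0, -2, 0, 0, 0, 0, -2, -2, 0],
  [2, -2, 2, 0, -2, 2, 0, 2, 2, -2, 2, 0, 0, -2, 0, -2, 0, 2, -2, 2, -2, 0, 0, -2],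
  [0, 0, 0, 2, 0, 0, -2, 0, 0, 0, 0, -2, 2, 0, -2, 0, 2, -4, 0, 0, -4, -2, 2, 0],
  [0, 4, 0, 2, 0, 4, 2, 0, 0, 0, 0, -2, -2, 0, 2, 0, -2, 0, 0, 0, 0, -2, 2, 0],
  [0, 0, 0, -2, 0, 0, -2, 0, 4, 0, 0, -2, -2, 0, -2, 4, -2, 0, 0, 0, 0, -2, -2, 0],
  [-2, 2, -2, 0, 2, -2, 0, 2, 2, 2, 2, 0, 0, -2, 0, -2, 0, 2, 2, -2, -2, 0, 0, -2],
  [2, 2, 2, 0, -2, -2, 0, 2, -2, 2, -2, 0, 0, 2, 0, 2, 0, 2, -2, -2, -2, 0, 0, -2],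
  [4, 0, 0, -2, 4, 0, -2, 0, 0, 0, 0, -2, -2, 0, 2, 0, 2, 0, 0, 0, 0, 2, 2, 0],
  [0, 0, 0, -2, 0, 0, -2, 4, 0, 0, 0, 2, 2, 0, 2, 0, -2, 0, 0, 0, 0, -2, 2, 4],
  [2, 2, 2, 0, -2, -2, 0, -2, 2, 2, 2, 0, 0, -2, 0, -2, 0, -2, -2, -2, 2, 0, 0, 2],
  [0, 0, -4, -2, 0, 0, 2, 0, 0, 0, 0, -2, 2, 0, 2, 0, 2, 0, -4, 0, 0, -2, -2, 0],
  [0, 0, 0, -2, 0, 0, 2, 0, 0, 0, 4, -2, 2, 4, -2, 0, -2, 0, 0, 0, 0, 2, 2, 0],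
  [-2, -2, 2, 0, 2, 2, 0, -2, 2, 2, -2, 0, 0, 2, 0, -2, 0, 2, -2, -2, -2, 0, 0, 2],
  [0, -4, 0, 2, 0, -4, 2, 0, 0, 0, 0, -2, -2, 0, 2, 0, -2, 0, 0, 0, 0, -2, 2, 0],
  [0, 0, 4, -2, 0, 0, 2, 0, 0, 0, 0, -2, 2, 0, 2, 0, 2, 0, 4, 0, 0, -2, -2, 0],
  [0, 0, 0, -2, 0, 0, 2, 0, 0, 0, -4, -2, 2, -4, -2, 0, -2, 0, 0, 0, 0, 2, 2, 0],
  [0, 0, 0, -2, 0, 0, -2, -4, 0, 0, 0, 2, 2, 0, 2, 0, -2, 0, 0, 0, 0, -2, 2, -4],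
  [0, 0, 0, 2, 0, 0, -2, 0, 0, 4, 0, -2, 2, 0, 2, 0, -2, 0, 0, 4, 0, 2, -2, 0],
  [0, 0, 0, -2, 0, 0, 2, 0, 0, 4, 0, 2, -2, 0, -2, 0, 2, 0, 0, 4, 0, -2, 2, 0],
  [2, -2, -2, 0, -2, 2, 0, -2, -2, 2, 2, 0, 0, -2, 0, 2, 0, 2, 2, -2, -2, 0, 0, 2],
  [0, 0, 0, 2, 0, 0, 2, 0, 4, 0, 0, 2, 2, 0, 2, 4, 2, 0, 0, 0, 0, 2, 2, 0],
  [0, 0, 0, -2, 0, 0, 2, 0, 0, 0, 0, 2, -2, 0, 2, 0, -2, -4, 0, 0, -4, 2, -2, 0]]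

theorem ok20 : Ok R20 (tr R20) := Cfsg.Agent.CoOneType.CoFast.ok_of_okZ (by decide +kernel)

/-- matrix -/
def R21 : List (List ℤ) := [
  [0, 2, 4, 0, 0, 0, -2, 0, 2, 0, 2, 0, 0, 0, 2, 0, 2, 0, 0, -2, 0, 2, -4, 0],
  [0, 2, -4, 0, 0, 0, -2, 0, 2, 0, 2, 0, 0, 0, 2, 0, 2, 0, 0, -2, 0, 2, 4, 0],
  [-2, 0, -2, -2, 2, -2, 0, 2, 0, -2, 0, 2, 2, 2, 0, -2, 0, 2, 2, 0, 2, 0, -2, -2],
  [2, 0, -2, -2, 2, 2, 0, -2, 0, 2, 0, 2, 2, -2, 0, 2, 0, 2, -2, 0, -2, 0, -2, -2],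
  [-2, 0, -2, 2, -2, -2, 0, 2, 0, -2, 0, -2, 2, -2, 0, 2, 0, -2, -2, 0, -2, 0, -2, -2],
  [0, 2, 0, 0, 0, 0, -2, 0, -2, 0, -2, 0, 0, 0, -2, 4, 2, 0, 0, 2, 4, 2, 0, 0],
  [2, 0, -2, -2, 2, 2, 0, 2, 0, -2, 0, -2, -2, 2, 0, 2, 0, -2, 2, 0, -2, 0, -2, 2],
  [-2, 0, 2, -2, 2, -2, 0, 2, 0, -2, 0, 2, -2, -2, 0, 2, 0, 2, -2, 0, -2, 0, 2, 2],
  [0, 2, 0, 0, 0, 0, 2, 4, -2, 4, 2, 0, 0, 0, -2, 0, 2, 0, 0, -2, 0, -2, 0, 0],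
  [0, 2, 0, 4, 4, 0, 2, 0, -2, 0, -2, 0, 0, 0, 2, 0, -2, 0, 0, -2, 0, 2, 0, 0],
  [0, 2, 0, 0, 0, 0, -2, 0, -2, 0, 2, 0, -4, 0, 2, 0, -2, 0, 0, 2, 0, -2, 0, -4],
  [2, 0, 2, 2, -2, 2, 0, 2, 0, -2, 0, 2, 2, 2, 0, 2, 0, 2, 2, 0, -2, 0, 2, -2],
  [0, -2, 0, 0, 0, 0, 2, 0, 2, 0, -2, 0, -4, 0, -2, 0, 2, 0, 0, -2, 0, 2, 0, -4],
  [0, 2, 0, 0, 0, 0, 2, 0, 2, 0, -2, -4, 0, 0, 2, 0, 2, 4, 0, 2, 0, -2, 0, 0],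
  [0, -2, 0, 0, 0, 0, -2, 4, 2, 4, -2, 0, 0, 0, 2, 0, -2, 0, 0, 2, 0, 2, 0, 0],
  [4, -2, 0, 0, 0, -4, -2, 0, -2, 0, -2, 0, 0, 0, 2, 0, 2, 0, 0, -2, 0, -2, 0, 0],
  [0, -2, 0, 0, 0, 0, 2, 0, 2, 0, 2, 0, 0, 0, 2, 4, -2, 0, 0, -2, 4, -2, 0, 0],
  [-4, -2, 0, 0, 0, 4, -2, 0, -2, 0, -2, 0, 0, 0, 2, 0, 2, 0, 0, -2, 0, -2, 0, 0],
  [0, 2, 0, 0, 0, 0, 2, 0, 2, 0, -2, 4, 0, 0, 2, 0, 2, -4, 0, 2, 0, -2, 0, 0],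
  [0, 2, 0, 0, 0, 0, -2, 0, 2, 0, -2, 0, 0, -4, -2, 0, -2, 0, 4, -2, 0, -2, 0, 0],
  [-2, 0, 2, -2, 2, -2, 0, -2, 0, 2, 0, -2, 2, 2, 0, 2, 0, -2, 2, 0, -2, 0, 2, -2],
  [2, 0, 2, -2, 2, 2, 0, 2, 0, -2, 0, -2, 2, -2, 0, -2, 0, -2, -2, 0, 2, 0, 2, -2],
  [0, -2, 0, 4, 4, 0, -2, 0, 2, 0, 2, 0, 0, 0, -2, 0, 2, 0, 0, 2, 0, -2, 0, 0],
  [0, 2, 0, 0, 0, 0, -2, 0, 2, 0, -2, 0, 0, 4, -2, 0, -2, 0, -4, -2, 0, -2, 0, 0]]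

theorem ok21 : Ok R21 (tr R21) := Cfsg.Agent.CoOneType.CoFast.ok_of_okZ (by decide +kernel)

/-- matrix -/
def R22 : List (List ℤ) := [
  [2, 0, 0, 0, 2, -2, 0, 0, 4, 2, 2, 0, -2, 0, 0, -2, 0, 0, 0, 0, 4, -2, 0, 0],
  [0, -2, 2, 2, 0, 0, -2, 2, 2, 0, 0, 2, 0, -2, -2, 0, 2, -2, -2, -2, -2, 0, 2, 2],
  [0, 2, -2, -2, 0, 0, 2, -2, 2, 0, 0, 2, 0, 2, 2, 0, -2, -2, -2, -2, -2, 0, 2, 2],
  [-2, 0, 4, 0, 2, -2, 0, -4, 0, 2, 2, 0, 2, 0, 0, 2, 0, 0, 0, 0, 0, 2, 0, 0],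
  [-2, 0, 0, 0, -2, 2, 0, 0, 0, 2, 2, -4, -2, 0, 0, -2, 0, 0, -4, 0, 0, 2, 0, 0],
  [-2, 0, 0, 0, -2, 2, 0, 0, 0, 2, 2, 4, -2, 0, 0, -2, 0, 0, 4, 0, 0, 2, 0, 0],
  [-2, 0, 0, 0, -2, -2, 0, 0, 0, -2, 2, 0, -2, 0, 0, 2, 0, 4, 0, -4, 0, -2, 0, 0],
  [2, 0, 0, 0, 2, 2, 0, 0, 0, 2, -2, 0, 2, 0, 0, -2, 0, 4, 0, -4, 0, 2, 0, 0],
  [2, 0, 0, 0, -2, 2, 0, 0, 0, 2, 2, 0, 2, -4, 4, 2, 0, 0, 0, 0, 0, -2, 0, 0],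
  [0, -2, -2, 2, 0, 0, -2, -2, -2, 0, 0, -2, 0, 2, 2, 0, 2, -2, 2, -2, 2, 0, 2, 2],
  [2, 0, 4, 0, -2, 2, 0, -4, 0, -2, -2, 0, -2, 0, 0, -2, 0, 0, 0, 0, 0, -2, 0, 0],
  [2, 0, 0, 0, -2, -2, -4, 0, 0, -2, 2, 0, 2, 0, 0, -2, -4, 0, 0, 0, 0, 2, 0, 0],
  [-2, 0, 0, 0, -2, -2, 0, 0, 0, 2, -2, 0, 2, 0, 0, -2, 0, 0, 0, 0, 0, -2, -4, 4],
  [-2, 4, 0, 4, 2, 2, 0, 0, 0, -2, 2, 0, 2, 0, 0, -2, 0, 0, 0, 0, 0, -2, 0, 0],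
  [2, 0, 0, 0, -2, 2, 0, 0, 0, 2, 2, 0, 2, 4, -4, 2, 0, 0, 0, 0, 0, -2, 0, 0],
  [-2, -4, 0, -4, 2, 2, 0, 0, 0, -2, 2, 0, 2, 0, 0, -2, 0, 0, 0, 0, 0, -2, 0, 0],
  [-2, 0, 0, 0, 2, 2, -4, 0, 0, 2, -2, 0, -2, 0, 0, 2, -4, 0, 0, 0, 0, -2, 0, 0],
  [0, 2, -2, -2, 0, 0, -2, -2, -2, 0, 0, 2, 0, -2, -2, 0, 2, -2, -2, -2, 2, 0, -2, -2],
  [0, -2, -2, 2, 0, 0, -2, -2, 2, 0, 0, 2, 0, 2, 2, 0, 2, 2, -2, 2, -2, 0, -2, -2],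
  [-2, 0, 0, 0, -2, 2, 0, 0, 4, -2, -2, 0, 2, 0, 0, 2, 0, 0, 0, 0, 4, 2, 0, 0],
  [-2, 0, 0, 0, -2, -2, 0, 0, 0, 2, -2, 0, 2, 0, 0, -2, 0, 0, 0, 0, 0, -2, 4, -4],
  [0, 2, 2, -2, 0, 0, -2, 2, 2, 0, 0, -2, 0, 2, 2, 0, 2, -2, 2, -2, -2, 0, -2, -2],
  [0, 2, -2, -2, 0, 0, -2, -2, 2, 0, 0, -2, 0, -2, -2, 0, 2, 2, 2, 2, -2, 0, 2, 2],
  [0, -2, -2, 2, 0, 0, 2, -2, 2, 0, 0, -2, 0, -2, -2, 0, -2, -2, 2, -2, -2, 0, -2, -2]]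

theorem ok22 : Ok R22 (tr R22) := Cfsg.Agent.CoOneType.CoFast.ok_of_okZ (by decide +kernel)

/-- matrix -/
def R23 : List (List ℤ) := [
  [0, -2, -2, 0, 0, 0, 0, 0, -4, 2, 0, 0, 0, 0, 0, 4, 0, -2, 2, 0, 0, -2, -2, -2],
  [0, -2, 2, 0, 0, 0, 0, 0, 0, -2, -4, 0, 0, 0, 0, 0, -4, 2, 2, 0, 0, 2, -2, -2],
  [-2, 0, 0, 2, -2, -2, -2, -2, 2, 0, -2, -2, 2, 2, 2, 2, 2, 0, 0, -2, 2, 0, 0, 0],
  [2, 0, 0, -2, -2, 2, 2, -2, 2, 0, -2, 2, 2, -2, -2, 2, 2, 0, 0, -2, -2, 0, 0, 0],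
  [-2, 0, 0, -2, -2, -2, -2, -2, -2, 0, 2, 2, 2, -2, -2, -2, -2, 0, 0, -2, 2, 0, 0, 0],
  [0, 2, 2, 0, 0, 0, 0, 0, 0, 2, 0, 0, 0, -4, 4, 0, 0, -2, 2, 0, 0, 2, -2, 2],
  [0, 2, 2, 0, 0, 0, 0, 0, 0, 2, 0, 0, 0, 4, -4, 0, 0, -2, 2, 0, 0, 2, -2, 2],
  [0, -2, 2, 0, 0, 0, 0, 0, 0, -2, 4, 0, 0, 0, 0, 0, 4, 2, 2, 0, 0, 2, -2, -2],
  [0, 2, -2, 0, 0, 0, 0, -4, 0, 2, 0, 0, 0, 0, 0, 0, 0, 2, 2, 4, 0, 2, 2, -2],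
  [0, 2, -2, 4, 0, 0, 0, 0, 0, -2, 0, 4, 0, 0, 0, 0, 0, 2, 2, 0, 0, -2, -2, 2],
  [0, 2, 2, 0, 0, 0, 0, 0, -4, -2, 0, 0, 0, 0, 0, 4, 0, 2, -2, 0, 0, 2, 2, 2],
  [-2, 0, 0, -2, 2, 2, -2, -2, 2, 0, 2, 2, -2, 2, 2, 2, -2, 0, 0, -2, -2, 0, 0, 0],
  [-2, 0, 0, -2, 2, -2, -2, 2, 2, 0, -2, 2, -2, -2, -2, 2, 2, 0, 0, 2, 2, 0, 0, 0],
  [0, 2, 2, 0, 0, -4, 0, 0, 0, 2, 0, 0, 0, 0, 0, 0, 0, 2, -2, 0, -4, -2, -2, -2],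
  [0, -2, 2, 4, 0, 0, 0, 0, 0, 2, 0, 4, 0, 0, 0, 0, 0, -2, -2, 0, 0, 2, 2, -2],
  [4, -2, 2, 0, 0, 0, -4, 0, 0, 2, 0, 0, 0, 0, 0, 0, 0, 2, 2, 0, 0, -2, 2, 2],
  [-4, -2, 2, 0, 0, 0, 4, 0, 0, 2, 0, 0, 0, 0, 0, 0, 0, 2, 2, 0, 0, -2, 2, 2],
  [2, 0, 0, 2, 2, -2, 2, -2, 2, 0, 2, -2, -2, -2, -2, 2, -2, 0, 0, -2, 2, 0, 0, 0],
  [0, -2, -2, 0, 4, 0, 0, 0, 0, 2, 0, 0, 4, 0, 0, 0, 0, 2, -2, 0, 0, 2, -2, 2],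
  [0, -2, -2, 0, -4, 0, 0, 0, 0, 2, 0, 0, -4, 0, 0, 0, 0, 2, -2, 0, 0, 2, -2, 2],
  [0, -2, 2, 0, 0, 0, 0, -4, 0, -2, 0, 0, 0, 0, 0, 0, 0, -2, -2, 4, 0, -2, -2, 2],
  [0, -2, -2, 0, 0, -4, 0, 0, 0, -2, 0, 0, 0, 0, 0, 0, 0, -2, 2, 0, -4, 2, 2, 2],
  [2, 0, 0, -2, 2, -2, 2, -2, -2, 0, -2, 2, -2, 2, 2, -2, 2, 0, 0, -2, 2, 0, 0, 0],
  [2, 0, 0, -2, -2, -2, 2, 2, 2, 0, 2, 2, 2, 2, 2, 2, -2, 0, 0, 2, 2, 0, 0, 0]]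

theorem ok23 : Ok R23 (tr R23) := Cfsg.Agent.CoOneType.CoFast.ok_of_okZ (by decide +kernel)

end Cfsg.Agent.LThreeCo1.Mats
end

-- part: LThreeCo1/Rel
section
/-!
# Relations between the explicit elements of `Co0` (helper53; generated)

`e 1, …, e 6` generate `A = 3^6`, `e 7, e 8, e 9` are `b₁, b₂, b₃`, `e 10 = t` inverts `A`, `e 11` has order 11 and
normalizes `A`; `e 12, …, e 28` conjugate elements of `A b` to the representatives; `e 29` is the permutation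
`x ↦ 1/(1-x)` of type `3^8`, `e 30` inverts it.
-/

set_option autoImplicit false
set_option maxRecDepth 20000

namespace Cfsg.Agent.LThreeCo1.Rel

open Cfsg Cfsg.Agent.LThreeCo1.Ev Cfsg.Agent.SporadicStructure.Co0Matrix Cfsg.Agent.CoOneType.CoEval
open Cfsg.Agent.LThreeCo1.Mats Cfsg.Agent.LThreeCo1.AGrp

/-- The matrices. -/
def M : ℕ → List (List ℤ)
  | 1 => R1
  | 2 => R2
  | 3 => R3
  | 4 => R4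
  | 5 => R5
  | 6 => R6
  | 7 => R7
  | 8 => R8
  | 9 => R9
  | 10 => R10
  | 11 => R11
  | 12 => R12
  | 13 => R13
  | 14 => R14
  | 15 => R15
  | 16 => R16
  | 17 => R17
  | 18 => R18
  | 19 => R19
  | 20 => R20
  | 21 => R21
  | 22 => R22
  | 23 => R23
  | 24 => R24
  | 25 => R25
  | 26 => R26
  | 27 => R27
  | 28 => R28
  | 29 => R29
  | 30 => R30
  | _ => R1

theorem okM (i : ℕ) : Ok (M i) (tr (M i)) := by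
  unfold M
  split
  · exact ok1
  · exact ok2
  · exact ok3
  · exact ok4
  · exact ok5
  · exact ok6
  · exact ok7
  · exact ok8
  · exact ok9
  · exact ok10
  · exact ok11
  · exact ok12
  · exact ok13
  · exact ok14
  · exact ok15
  · exact ok16
  · exact ok17
  · exact ok18
  · exact ok19
  · exact ok20
  · exact ok21
  · exact ok22
  · exact ok23
  · exact ok24
  · exact ok25
  · exact ok26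
  · exact ok27
  · exact ok28
  · exact ok29
  · exact ok30
  · exact ok1

/-- The elements. -/
noncomputable def e (i : ℕ) : Co0 := mk (okM i)

theorem rep (i : ℕ) : Rep (e i) (M i) := rep_mk (okM i)

/-- Words of the elements of `A`. -/
def wd (n : ℕ) : List ℕ :=
  List.replicate (dg n 0) 1 ++ (List.replicate (dg n 1) 2 ++ (List.replicate (dg n 2) 3 ++
    (List.replicate (dg n 3) 4 ++ (List.replicate (dg n 4) 5 ++ List.replicate (dg n 5) 6))))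

/-- The generators of `A`. -/
noncomputable def a (i : Fin 6) : Co0 := e (i.val + 1)

theorem val_vc (n : ℕ) (i : Fin 6) : (vc n i).val = dg n i.val := by
  rw [vc_apply, ZMod.val_natCast]
  exact Nat.mod_eq_of_lt (Nat.mod_lt _ (by norm_num))

theorem wd_prod (n : ℕ) : ((wd n).map e).prod = Ph a (vc n) := by
  unfold wd Ph
  simp only [List.map_append, List.prod_append, List.map_replicate, List.prod_replicate, val_vc]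
  rfl

/-- Codes of the images of the generators of `A` under conjugation by `e g`. -/
def c (g j : ℕ) : ℕ :=
  match g with
  | 7 => [1, 9, 27, 3, 402, 282].getD j 0
  | 8 => [576, 27, 3, 9, 443, 306].getD j 0
  | 9 => [307, 3, 9, 27, 369, 321].getD j 0
  | 10 => [2, 6, 18, 54, 162, 486].getD j 0
  | 11 => [1, 54, 464, 423, 207, 81].getD j 0
  | _ => 0

/-! ### Kernel checks -/

theorem k_comm : ((List.range 6).all fun i => (List.range i).all fun j =>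
    eqB M [i + 1, j + 1] [j + 1, i + 1]) = true := by decide +kernel

theorem k_cube : ((List.range 9).all fun i => eqB M [i + 1, i + 1, i + 1] []) = true := by decide +kernel

/-- check of the conjugation by `e g` -/
def cj (g : ℕ) : Bool := (List.range 6).all fun j => eqB M [g, j + 1] (wd (c g j) ++ [g])

theorem k_7 : cj 7 = true := by decide +kernel
theorem k_8 : cj 8 = true := by decide +kernel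
theorem k_9 : cj 9 = true := by decide +kernel
theorem k_10 : cj 10 = true := by decide +kernel
theorem k_11 : cj 11 = true := by decide +kernel

theorem k_b : (eqB M [7, 8] [9, 8, 7] && eqB M [9, 7] [7, 9] && eqB M [9, 8] [8, 9] && eqB M [10, 7] [7, 10] &&
    eqB M [10, 8] [8, 10] && eqB M [10, 9] [9, 10]) = true := by decide +kernel
theorem k_b12 : (eqB M [7, 8, 7, 8, 7, 8] [] && eqB M [7, 8, 8, 7, 8, 8, 7, 8, 8] []) = true := by decide +kernel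
theorem k_29 : (eqB M [29, 29, 29] [] && eqB M [30, 29] [29, 29, 30]) = true := by decide +kernel
theorem k_12 : eqB M (12 :: (wd 0 ++ [7])) (wd 4 ++ [12]) = true := by decide +kernel
theorem k_13 : eqB M (13 :: (wd 1 ++ [7])) (wd 79 ++ [13]) = true := by decide +kernel
theorem k_14 : eqB M (14 :: (wd 189 ++ [7])) ([29] ++ [14]) = true := by decide +kernel
theorem k_15 : eqB M (15 :: (wd 190 ++ [7])) ([29] ++ [15]) = true := by decide +kernel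
theorem k_16 : eqB M (16 :: (wd 136 ++ [7])) ([29] ++ [16]) = true := by decide +kernel
theorem k_17 : eqB M (17 :: (wd 0 ++ [7, 8])) (wd 4 ++ [17]) = true := by decide +kernel
theorem k_18 : eqB M (18 :: (wd 243 ++ [7, 8])) ([29] ++ [18]) = true := by decide +kernel
theorem k_19 : eqB M (19 :: (wd 27 ++ [7, 8])) (wd 79 ++ [19]) = true := by decide +kernel
theorem k_20 : eqB M (20 :: (wd 270 ++ [7, 8])) ([29] ++ [20]) = true := by decide +kernel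
theorem k_21 : eqB M (21 :: (wd 513 ++ [7, 8])) ([29] ++ [21]) = true := by decide +kernel
theorem k_22 : eqB M (22 :: (wd 0 ++ [9])) (wd 4 ++ [22]) = true := by decide +kernel
theorem k_23 : eqB M (23 :: (wd 27 ++ [9])) (wd 79 ++ [23]) = true := by decide +kernel
theorem k_24 : eqB M (24 :: (wd 163 ++ [9])) ([29] ++ [24]) = true := by decide +kernel
theorem k_25 : eqB M (25 :: (wd 190 ++ [9])) ([29] ++ [25]) = true := by decide +kernel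
theorem k_26 : eqB M (26 :: (wd 217 ++ [9])) ([29] ++ [26]) = true := by decide +kernel
theorem k_27 : eqB M (27 :: (wd 0 ++ [8])) ([29] ++ [27]) = true := by decide +kernel
theorem k_28 : eqB M (28 :: (wd 0 ++ [7, 8, 8])) ([29] ++ [28]) = true := by decide +kernel

end Cfsg.Agent.LThreeCo1.Rel
end
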